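/-
A trivial-intersection subgroup `M` with `N(M) = M · C_{N(M)}(z)` and more involutions than cosets.
-/
import Cfsg.Agent.Lib.Solv.ConstFour.Structure

set_option autoImplicit false

namespace Cfsg.Agent.Solv.TICount

open scoped Pointwise

universe u

variable {G : Type u} [Group G]

/-- The normalizer. -/
abbrev Nm (M : Subgroup G) : Subgroup G := Subgroup.normalizer (M : Set G)

/-- The complement of `M` in its normalizer. -/
abbrev Dd (M : Subgroup G) (z : G) : Subgroup G := Nm M ⊓ Subgroup.centralizer ({z} : Set G)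

/-- The hypotheses. -/
structure Ctx (M : Subgroup G) (z : G) : Prop where
  ne : M ≠ ⊥
  ti : ∀ g : G, ∀ x ∈ M, x ≠ 1 → g * x * g⁻¹ ∈ M → g ∈ Nm M
  zz : z * z = 1
  z1 : z ≠ 1
  zN : z ∈ Nm M
  fac : ∀ n ∈ Nm M, ∃ x ∈ M, ∃ d ∈ Dd M z, n = x * d
  odd : ∀ x ∈ M, x ≠ 1 → Odd (Nat.card ↥(Subgroup.centralizer ({x} : Set G)))
  cnt : M.index < Nat.card {g : G // orderOf g = 2}
  proper : Nm M ≠ ⊤

theorem orderOf_two {g : G} : orderOf g = 2 ↔ g * g = 1 ∧ g ≠ 1 := by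
  rw [orderOf_eq_prime_iff, pow_two]

theorem inv_self {g : G} (h : g * g = 1) : g⁻¹ = g := inv_eq_of_mul_eq_one_right h

theorem conj_mul_self {g : G} (h : g * g = 1) (y : G) : y * g * y⁻¹ * (y * g * y⁻¹) = 1 := by
  calc y * g * y⁻¹ * (y * g * y⁻¹) = y * (g * g) * y⁻¹ := by group
    _ = 1 := by rw [h]; group

namespace Ctx

variable [Finite G] {M : Subgroup G} {z : G} (C : Ctx M z)
include C

theorem norm_conj {n x : G} (hn : n ∈ Nm M) (hx : x ∈ M) : n * x * n⁻¹ ∈ M :=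
  (Subgroup.mem_normalizer_iff.1 hn x).1 hx

theorem norm_conj' {n x : G} (hn : n ∈ Nm M) (hx : x ∈ M) : n⁻¹ * x * n ∈ M :=
  (Subgroup.mem_normalizer_iff''.1 hn x).1 hx

theorem mem_dd {d : G} : d ∈ Dd M z ↔ d ∈ Nm M ∧ d * z = z * d := by
  rw [Dd, Subgroup.mem_inf, Subgroup.mem_centralizer_singleton_iff]

theorem z_mem : z ∈ Dd M z := C.mem_dd.2 ⟨C.zN, rfl⟩

theorem no_invol_cent {x u : G} (hx : x ∈ M) (hu : u * u = 1) (hu1 : u ≠ 1) (h : u * x = x * u) : x = 1 := by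
  by_contra hx1
  have hm : u ∈ Subgroup.centralizer ({x} : Set G) := Subgroup.mem_centralizer_singleton_iff.2 h
  have h2 := Subgroup.orderOf_dvd_natCard _ hm
  rw [orderOf_two.2 ⟨hu, hu1⟩] at h2
  exact (Nat.not_even_iff_odd.2 (C.odd x hx hx1)) (even_iff_two_dvd.2 h2)

theorem odd_M : Odd (Nat.card M) := by
  rcases Nat.even_or_odd (Nat.card M) with he | ho
  · haveI : Fact (Nat.Prime 2) := ⟨Nat.prime_two⟩
    obtain ⟨⟨u, hu⟩, hu2⟩ := exists_prime_orderOf_dvd_card' 2 (even_iff_two_dvd.1 he)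
    rw [← Subgroup.orderOf_coe] at hu2
    obtain ⟨h1, h2⟩ := orderOf_two.1 hu2
    exact absurd (C.no_invol_cent hu h1 h2 rfl) h2
  · exact ho

theorem eq_one_of_sq {x : G} (hx : x ∈ M) (h : x * x = 1) : x = 1 := by
  by_contra h1
  exact h1 (C.no_invol_cent hx h h1 rfl)

/-- An involution of the normalizer that lies in `D` is `z`; all invert `M`. -/
theorem inverts_dd {u : G} (hu : u ∈ Nm M) (huu : u * u = 1) (hu1 : u ≠ 1) :
    ∀ x ∈ M, u * x * u⁻¹ = x⁻¹ ∧ ∀ y ∈ M, x * y = y * x :=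
  ConstFour.inverts_of_fpf (fun _ hx => C.norm_conj hu hx) (fun x _ => by rw [huu, one_mul, mul_one])
    fun _ hx h => C.no_invol_cent hx huu hu1 h

theorem comm_M {x y : G} (hx : x ∈ M) (hy : y ∈ M) : x * y = y * x :=
  (C.inverts_dd C.zN C.zz C.z1 x hx).2 y hy

theorem inv_M {x : G} (hx : x ∈ M) : z * x * z = x⁻¹ := by
  have := (C.inverts_dd C.zN C.zz C.z1 x hx).1
  rwa [inv_self C.zz] at this

theorem z_mul {x : G} (hx : x ∈ M) : z * x = x⁻¹ * z := by
  rw [← C.inv_M hx]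
  simp only [mul_assoc, C.zz, mul_one]

theorem mem_M_dd {x : G} (hx : x ∈ M) (hd : x ∈ Dd M z) : x = 1 :=
  C.no_invol_cent hx C.zz C.z1 (C.mem_dd.1 hd).2.symm

theorem invol_dd {d : G} (hd : d ∈ Dd M z) (h : d * d = 1) (h1 : d ≠ 1) : d = z := by
  obtain ⟨hdN, hdz⟩ := C.mem_dd.1 hd
  by_contra hne
  obtain ⟨x, hx, hx1⟩ := (Subgroup.bot_or_exists_ne_one M).resolve_left C.ne
  refine hx1 (C.no_invol_cent (u := d * z) hx ?_ (fun e => hne ?_) ?_)
  · rw [show d * z * (d * z) = d * (z * d) * z by group, ← hdz, show d * (d * z) * z = (d * d) * (z * z) by group,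
      h, C.zz, one_mul]
  · rw [← mul_inv_eq_one, inv_self C.zz, e]
  · have hd' := (C.inverts_dd hdN h h1 x⁻¹ (inv_mem hx)).1
    rw [inv_inv] at hd'
    calc d * z * x = d * (z * x) := mul_assoc _ _ _
      _ = d * x⁻¹ * d⁻¹ * (d * z) := by rw [C.z_mul hx]; group
      _ = x * (d * z) := by rw [hd']

theorem decomp_unique {x y d e : G} (hx : x ∈ M) (hy : y ∈ M) (hd : d ∈ Dd M z) (he : e ∈ Dd M z)
    (h : x * d = y * e) : x = y ∧ d = e := by
  have h1 : y⁻¹ * x = e * d⁻¹ := by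
    calc y⁻¹ * x = y⁻¹ * (x * d) * d⁻¹ := by group
      _ = e * d⁻¹ := by rw [h]; group
  have h2 := C.mem_M_dd (mul_mem (inv_mem hy) hx) (h1 ▸ mul_mem he (inv_mem hd))
  have := inv_mul_eq_one.1 h2
  subst this
  exact ⟨rfl, mul_left_cancel h⟩

theorem invol_norm {w : G} (hw : w ∈ Nm M) (hww : w * w = 1) (hw1 : w ≠ 1) : ∃ x ∈ M, w = x * z := by
  obtain ⟨x, hx, d, hd, rfl⟩ := C.fac w hw
  have h2 : (x * (d * x * d⁻¹)) * (d * d) = 1 * 1 := by
    rw [one_mul, ← hww]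
    group
  obtain ⟨h3, h4⟩ := C.decomp_unique (mul_mem hx (C.norm_conj (C.mem_dd.1 hd).1 hx)) (one_mem M)
    (mul_mem hd hd) (one_mem _) h2
  refine ⟨x, hx, ?_⟩
  by_cases h1 : d = 1
  · subst h1
    simp only [mul_one, inv_one, one_mul] at h3 hw1
    exact absurd (C.eq_one_of_sq hx h3) hw1
  · rw [C.invol_dd hd h4 h1]

theorem norm_invol {x : G} (hx : x ∈ M) : x * z ∈ Nm M ∧ x * z * (x * z) = 1 ∧ x * z ≠ 1 := by
  refine ⟨mul_mem (Subgroup.le_normalizer hx) C.zN, ?_, fun h => ?_⟩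
  · rw [show x * z * (x * z) = x * (z * x) * z by group, C.z_mul hx,
      show x * (x⁻¹ * z) * z = z * z by group, C.zz]
  · have := C.decomp_unique hx (one_mem M) C.z_mem (one_mem _) (h.trans (one_mul 1).symm)
    exact C.z1 this.2

theorem exists_sqrt {x : G} (hx : x ∈ M) : ∃ y ∈ M, y * y = x := by
  obtain ⟨k, hk⟩ := C.odd_M
  refine ⟨x ^ (k + 1), pow_mem hx _, ?_⟩
  have h : x ^ Nat.card M = 1 := orderOf_dvd_iff_pow_eq_one.1 (Subgroup.orderOf_dvd_natCard _ hx)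
  calc x ^ (k + 1) * x ^ (k + 1) = x ^ (Nat.card M) * x := by rw [← pow_add, ← pow_succ, hk]; ring_nf
    _ = x := by rw [h, one_mul]

theorem conj_z {y : G} (hy : y ∈ M) : y * z * y⁻¹ = y * y * z := by
  rw [mul_assoc, mul_assoc y y z, C.z_mul (inv_mem hy), inv_inv]

/-- Every involution of the normalizer is conjugate to `z` by an element of `M`. -/
theorem invol_norm_conj {w : G} (hw : w ∈ Nm M) (hww : w * w = 1) (hw1 : w ≠ 1) :
    ∃ y ∈ M, w = y * z * y⁻¹ := by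
  obtain ⟨x, hx, rfl⟩ := C.invol_norm hw hww hw1
  obtain ⟨y, hy, rfl⟩ := C.exists_sqrt hx
  exact ⟨y, hy, (C.conj_z hy).symm⟩

theorem conj_z_cancel {x : G} (hx : x ∈ M) (h : x⁻¹ * z * x = z) : x = 1 := by
  refine C.no_invol_cent hx C.zz C.z1 ?_
  calc z * x = x * (x⁻¹ * z * x) := by group
    _ = x * z := by rw [h]

theorem coset_invol_unique {i j : G} (hi : i * i = 1) (hiN : i ∉ Nm M) (hj : j * j = 1)
    (h : i⁻¹ * j ∈ M) : i = j := by
  by_contra hne
  refine hiN (C.ti i _ h (fun e => hne (inv_mul_eq_one.1 e)) ?_)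
  have hm := inv_mem h
  have he : i * (i⁻¹ * j) * i⁻¹ = (i⁻¹ * j)⁻¹ := by
    rw [inv_self hi, mul_inv_rev, inv_self hi, inv_self hj, ← mul_assoc, hi, one_mul]
  rwa [he]

/-- Every coset of `M` outside the normalizer contains an involution. -/
theorem exists_invol {g : G} (hg : g ∉ Nm M) : ∃ i : G, i * i = 1 ∧ i ∉ Nm M ∧ g⁻¹ * i ∈ M := by
  by_contra hno
  push Not at hno
  classical
  have hout : ∀ w : G, w * w = 1 → g⁻¹ * w ∈ M → False := fun w hw hm => by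
    refine hg ?_
    have hwN : w ∈ Nm M := by
      by_contra hwN
      exact hno w hw hwN hm
    have : g = w * (g⁻¹ * w)⁻¹ := by group
    rw [this]
    exact mul_mem hwN (inv_mem (Subgroup.le_normalizer hm))
  have hxg : ∀ x ∈ M, x * g ∉ Nm M := fun x hx h => hg (by
    have := mul_mem (inv_mem (Subgroup.le_normalizer hx)) h
    rwa [inv_mul_cancel_left] at this)
  have hcoord : ∀ w : {w : G // orderOf w = 2}, ∃ q : G, (w.1 ∈ Nm M → ∃ x ∈ M, w.1 = x * z ∧ q = x * g) ∧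
      (w.1 ∉ Nm M → q = w.1) := fun w => by
    by_cases hw : w.1 ∈ Nm M
    · obtain ⟨x, hx, e⟩ := C.invol_norm hw (orderOf_two.1 w.2).1 (orderOf_two.1 w.2).2
      exact ⟨x * g, fun _ => ⟨x, hx, e, rfl⟩, fun h => absurd hw h⟩
    · exact ⟨w.1, fun h => absurd h hw, fun _ => rfl⟩
  choose q hqin hqout using hcoord
  have hinj : Function.Injective fun w => ((q w : G) : G ⧸ M) := by
    intro v w e
    rw [QuotientGroup.eq] at e
    by_cases hv : v.1 ∈ Nm M <;> by_cases hw : w.1 ∈ Nm M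
    · obtain ⟨x, hx, ev, qv⟩ := hqin v hv
      obtain ⟨y, hy, ew, qw⟩ := hqin w hw
      rw [qv, qw, show (x * g)⁻¹ * (y * g) = g⁻¹ * (x⁻¹ * y) * g by group] at e
      refine Subtype.ext ?_
      by_cases h1 : x⁻¹ * y = 1
      · rw [ev, ew, inv_mul_eq_one.1 h1]
      · refine absurd (inv_mem_iff.1 (C.ti g⁻¹ _ (mul_mem (inv_mem hx) hy) h1 ?_)) hg
        rwa [inv_inv]
    · obtain ⟨x, hx, ev, qv⟩ := hqin v hv
      rw [qv, hqout w hw] at e
      exfalso
      refine hout (x⁻¹ * w.1 * x) ?_ ?_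
      · have := conj_mul_self (orderOf_two.1 w.2).1 x⁻¹
        rwa [inv_inv] at this
      · rw [show g⁻¹ * (x⁻¹ * w.1 * x) = (x * g)⁻¹ * w.1 * x by group]
        exact mul_mem e hx
    · obtain ⟨y, hy, ew, qw⟩ := hqin w hw
      rw [qw, hqout v hv] at e
      exfalso
      refine hout (y⁻¹ * v.1 * y) ?_ ?_
      · have := conj_mul_self (orderOf_two.1 v.2).1 y⁻¹
        rwa [inv_inv] at this
      · rw [show g⁻¹ * (y⁻¹ * v.1 * y) = (v.1⁻¹ * (y * g))⁻¹ * y by group]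
        exact mul_mem (inv_mem e) hy
    · rw [hqout v hv, hqout w hw] at e
      exact Subtype.ext (C.coset_invol_unique (orderOf_two.1 v.2).1 hv (orderOf_two.1 w.2).1 e)
  have := Nat.card_le_card_of_injective _ hinj
  have := C.cnt
  rw [Subgroup.index] at this
  omega

theorem not_invol_fix {i : G} (hiN : i ∉ Nm M) {e : G} (he : e ∈ M) (h : i * e * i⁻¹ ∈ M) : e = 1 := by
  by_contra h1
  exact hiN (C.ti i e he h1 h)

/-- Each element of `D` lifts to an element inverted by an involution outside the normalizer. -/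
theorem lift {i : G} (hi : i * i = 1) (hiN : i ∉ Nm M) {d : G} (hd : d ∈ Dd M z) :
    ∃ y ∈ M, d * y ∈ Nm M ∧ i * (d * y) * i ∈ Nm M ∧ i * (d * y) * i = (d * y)⁻¹ := by
  have hdN := (C.mem_dd.1 hd).1
  have hg : i * d ∉ Nm M := fun h => hiN (by
    have := mul_mem h (inv_mem hdN)
    rwa [mul_inv_cancel_right] at this)
  obtain ⟨j, hj, hjN, hm⟩ := C.exists_invol hg
  set y := (i * d)⁻¹ * j with hy
  have hjeq : j = i * (d * y) := by rw [hy]; group
  have hN : d * y ∈ Nm M := mul_mem hdN (Subgroup.le_normalizer hm)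
  have he : i * (d * y) * i = (d * y)⁻¹ := by
    refine eq_inv_of_mul_eq_one_left ?_
    rw [← hj, hjeq]; group
  exact ⟨y, hm, hN, he ▸ inv_mem hN, he⟩

theorem t_exists {i : G} (hi : i * i = 1) (hiN : i ∉ Nm M) :
    ∃ t : G, t ∈ Nm M ∧ t * t = 1 ∧ t ≠ 1 ∧ i * t * i = t := by
  obtain ⟨y, hy, hN, -, he⟩ := C.lift hi hiN C.z_mem
  have hw := C.norm_invol (inv_mem hy)
  rw [← C.z_mul hy] at hw
  exact ⟨z * y, hN, hw.2.1, hw.2.2, he.trans (inv_self hw.2.1)⟩

theorem central_mod {t n : G} (ht : t ∈ Nm M) (htt : t * t = 1) (ht1 : t ≠ 1) (hn : n ∈ Nm M) :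
    t * n * t * n⁻¹ ∈ M := by
  obtain ⟨y, hy, rfl⟩ := C.invol_norm ht htt ht1
  obtain ⟨a, ha, d, hd, rfl⟩ := C.fac n hn
  have hdN := (C.mem_dd.1 hd).1
  have h1 : z * (a * d) = a⁻¹ * d * z := by
    rw [← mul_assoc, C.z_mul ha, mul_assoc, ← (C.mem_dd.1 hd).2, mul_assoc]
  have h2 : y * z * (a * d) * (y * z) * (a * d)⁻¹ = y * a⁻¹ * (d * y⁻¹ * d⁻¹) * a⁻¹ := by
    calc y * z * (a * d) * (y * z) * (a * d)⁻¹ = y * (z * (a * d)) * (y * z) * (a * d)⁻¹ := by group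
      _ = y * a⁻¹ * d * (z * y) * z * d⁻¹ * a⁻¹ := by rw [h1]; group
      _ = y * a⁻¹ * d * y⁻¹ * (z * z) * d⁻¹ * a⁻¹ := by rw [C.z_mul hy]; group
      _ = y * a⁻¹ * (d * y⁻¹ * d⁻¹) * a⁻¹ := by rw [C.zz]; group
  rw [h2]
  exact mul_mem (mul_mem (mul_mem hy (inv_mem ha)) (C.norm_conj hdN (inv_mem hy))) (inv_mem ha)

/-- `N ∩ iNi` meets `M` trivially. -/
theorem meet {i : G} (hi : i * i = 1) (hiN : i ∉ Nm M) {x : G} (hx : x ∈ M) (h : i * x * i ∈ Nm M) :
    x = 1 := by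
  obtain ⟨t, htN, htt, ht1, hti⟩ := C.t_exists hi hiN
  have h1 := C.central_mod htN htt ht1 h
  have hinv := (C.inverts_dd htN htt ht1 x hx).1
  rw [inv_self htt] at hinv
  have hit : i * t = t * i := by
    calc i * t = i * t * i * i := by rw [mul_assoc _ i i, hi, mul_one]
      _ = t * i := by rw [hti]
  have h2 : t * (i * x * i) * t * (i * x * i)⁻¹ = i * (x⁻¹ * x⁻¹) * i⁻¹ := by
    calc t * (i * x * i) * t * (i * x * i)⁻¹ = (t * i) * x * (i * t) * i⁻¹ * x⁻¹ * i⁻¹ := by group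
      _ = i * t * x * (t * i) * i⁻¹ * x⁻¹ * i⁻¹ := by rw [← hit]
      _ = i * (t * x * t * x⁻¹) * i⁻¹ := by group
      _ = _ := by rw [hinv]
  rw [h2] at h1
  have := C.not_invol_fix hiN (mul_mem (inv_mem hx) (inv_mem hx)) h1
  exact inv_eq_one.1 (C.eq_one_of_sq (inv_mem hx) this)

theorem lift_unique {i : G} (hi : i * i = 1) (hiN : i ∉ Nm M) {h h' : G} (hh : i * h * i ∈ Nm M)
    (hh' : i * h' * i ∈ Nm M) (hm : h⁻¹ * h' ∈ M) : h = h' := by
  refine inv_mul_eq_one.1 (C.meet hi hiN hm ?_)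
  have : i * (h⁻¹ * h') * i = (i * h * i)⁻¹ * (i * h' * i) := by
    rw [mul_inv_rev, mul_inv_rev, inv_self hi]
    simp only [mul_assoc]
    rw [← mul_assoc i i, hi, one_mul]
  rw [this]
  exact mul_mem (inv_mem hh) hh'

theorem inverted {i : G} (hi : i * i = 1) (hiN : i ∉ Nm M) {n : G} (hn : n ∈ Nm M)
    (hn' : i * n * i ∈ Nm M) : i * n * i = n⁻¹ := by
  obtain ⟨a, ha, d, hd, rfl⟩ := C.fac n hn
  obtain ⟨y, hy, -, hN', he⟩ := C.lift hi hiN hd
  have := C.lift_unique hi hiN hn' hN' (by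
    rw [show (a * d)⁻¹ * (d * y) = (d⁻¹ * a⁻¹ * d) * y by group]
    exact mul_mem (C.norm_conj' (C.mem_dd.1 hd).1 (inv_mem ha)) hy)
  rw [this]; exact he

theorem H_comm {i : G} (hi : i * i = 1) (hiN : i ∉ Nm M) {a b : G} (ha : a ∈ Nm M)
    (ha' : i * a * i ∈ Nm M) (hb : b ∈ Nm M) (hb' : i * b * i ∈ Nm M) : a * b = b * a := by
  have e : i * (a * b) * i = i * a * i * (i * b * i) := by
    simp only [mul_assoc]; rw [← mul_assoc i i, hi, one_mul]
  have h := C.inverted hi hiN (mul_mem ha hb) (e ▸ mul_mem ha' hb')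
  rw [e, C.inverted hi hiN ha ha', C.inverted hi hiN hb hb', ← mul_inv_rev, inv_inj] at h
  exact h.symm

theorem exists_out : ∃ i : G, i * i = 1 ∧ i ∉ Nm M := by
  by_contra hno
  push Not at hno
  refine C.proper ((Subgroup.eq_top_iff' _).2 fun g => ?_)
  by_contra hg
  obtain ⟨i, hi, hiN, -⟩ := C.exists_invol hg
  exact hiN (hno i hi)

theorem dd_comm {d e : G} (hd : d ∈ Dd M z) (he : e ∈ Dd M z) : d * e = e * d := by
  obtain ⟨i, hi, hiN⟩ := C.exists_out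
  obtain ⟨y, hy, hyN, hy', -⟩ := C.lift hi hiN hd
  obtain ⟨w, hw, hwN, hw', -⟩ := C.lift hi hiN he
  have h := C.H_comm hi hiN hyN hy' hwN hw'
  have hdN := (C.mem_dd.1 hd).1
  have heN := (C.mem_dd.1 he).1
  have e1 : d * y * (e * w) = (d * y * d⁻¹) * (d * (e * w * e⁻¹) * d⁻¹) * (d * e) := by group
  have e2 : e * w * (d * y) = (e * w * e⁻¹) * (e * (d * y * d⁻¹) * e⁻¹) * (e * d) := by group
  rw [e1, e2] at h
  exact (C.decomp_unique
    (mul_mem (C.norm_conj hdN hy) (C.norm_conj hdN (C.norm_conj heN hw)))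
    (mul_mem (C.norm_conj heN hw) (C.norm_conj heN (C.norm_conj hdN hy)))
    (mul_mem hd he) (mul_mem he hd) h).2

theorem cent_out {c : G} (hc : c * z = z * c) (hcN : c ∉ Nm M) :
    c * c = 1 ∧ ∀ d ∈ Dd M z, c * d * c = d⁻¹ := by
  obtain ⟨i, hi, hiN, hm⟩ := C.exists_invol hcN
  set x := c⁻¹ * i with hx
  have hieq : i = c * x := by rw [hx]; group
  have hiz : i * z * i ∈ Nm M := by
    have : i * z * i = x⁻¹ * z * x := by
      conv_lhs => rw [← inv_self hi]; arg 2; rw [inv_self hi]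
      rw [hieq, show (c * x)⁻¹ * z * (c * x) = x⁻¹ * (c⁻¹ * (z * c)) * x by group, ← hc]; group
    rw [this]
    exact mul_mem (mul_mem (inv_mem (Subgroup.le_normalizer hm)) C.zN) (Subgroup.le_normalizer hm)
  have h := C.inverted hi hiN C.zN hiz
  rw [inv_self C.zz] at h
  have hx1 : x = 1 := by
    refine C.conj_z_cancel hm ?_
    calc x⁻¹ * z * x = x⁻¹ * (c⁻¹ * (c * z)) * x := by group
      _ = i⁻¹ * z * i := by rw [hc, hieq]; group
      _ = z := by rw [inv_self hi, h]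
  have hic : i = c := by rw [hieq, hx1, mul_one]
  subst hic
  refine ⟨hi, fun d hd => ?_⟩
  obtain ⟨y, hy, hN, hN', he⟩ := C.lift hi hiN hd
  have hcomm := C.H_comm hi hiN C.zN hiz hN hN'
  have hy' : d * y ∈ Dd M z := C.mem_dd.2 ⟨hN, hcomm.symm⟩
  have h1 : y = 1 := C.mem_M_dd hy (by
    have := mul_mem (inv_mem hd) hy'
    rwa [inv_mul_cancel_left] at this)
  rw [h1, mul_one] at he
  exact he

/-- Every point other than `N` is `x c N` with `x ∈ M` and `c` outside `N` centralising `z`. -/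
theorem decomp {g : G} (hg : g ∉ Nm M) :
    ∃ x ∈ M, ∃ c : G, c * z = z * c ∧ c ∉ Nm M ∧ (g : G ⧸ Nm M) = ((x * c : G) : G ⧸ Nm M) := by
  obtain ⟨i, hi, hiN, hm⟩ := C.exists_invol hg
  obtain ⟨t, htN, htt, ht1, hti⟩ := C.t_exists hi hiN
  obtain ⟨y, hy, rfl⟩ := C.invol_norm_conj htN htt ht1
  have hyN : y ∈ Nm M := Subgroup.le_normalizer hy
  refine ⟨y, hy, y⁻¹ * i * y, ?_, fun h => hiN ?_, ?_⟩
  · have hit : i * (y * z * y⁻¹) = y * z * y⁻¹ * i := by
      calc i * (y * z * y⁻¹) = i * (y * z * y⁻¹) * i * i := by rw [mul_assoc _ i i, hi, mul_one]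
        _ = y * z * y⁻¹ * i := by rw [hti]
    calc y⁻¹ * i * y * z = y⁻¹ * (i * (y * z * y⁻¹)) * y := by group
      _ = z * (y⁻¹ * i * y) := by rw [hit]; group
  · have := mul_mem (mul_mem hyN h) (inv_mem hyN)
    rwa [show y * (y⁻¹ * i * y) * y⁻¹ = i by group] at this
  · rw [QuotientGroup.eq, show g⁻¹ * (y * (y⁻¹ * i * y)) = (g⁻¹ * i) * y by group]
    exact Subgroup.le_normalizer (mul_mem hm hy)

theorem decomp_eq {x x' c c' : G} (hx : x ∈ M) (hx' : x' ∈ M) (hc : c * z = z * c)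
    (hc' : c' * z = z * c') (hcN' : c' ∉ Nm M)
    (h : ((x * c : G) : G ⧸ Nm M) = ((x' * c' : G) : G ⧸ Nm M)) : x = x' ∧ c⁻¹ * c' ∈ Dd M z := by
  rw [QuotientGroup.eq, show (x * c)⁻¹ * (x' * c') = c⁻¹ * (x⁻¹ * x') * c' by group] at h
  set w := x⁻¹ * x' with hw
  have hwM : w ∈ M := mul_mem (inv_mem hx) hx'
  obtain ⟨hc2, -⟩ := C.cent_out hc' hcN'
  set n := c⁻¹ * w * c' with hn
  have hzz : c'⁻¹ * (w⁻¹ * z * w) * c' = n⁻¹ * z * n := by
    have e : z = c * z * c⁻¹ := by rw [hc]; group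
    calc c'⁻¹ * (w⁻¹ * z * w) * c' = c'⁻¹ * w⁻¹ * z * (w * c') := by group
      _ = c'⁻¹ * w⁻¹ * (c * z * c⁻¹) * (w * c') := by rw [← e]
      _ = n⁻¹ * z * n := by rw [hn]; group
  rw [inv_self hc2] at hzz
  have hwN : w ∈ Nm M := Subgroup.le_normalizer hwM
  have hv : w⁻¹ * z * w = z := by
    have h1 : c' * (w⁻¹ * z * w) * c' ∈ Nm M := hzz ▸ mul_mem (mul_mem (inv_mem h) C.zN) h
    have h2 : c' * z * c' ∈ Nm M := by rw [hc', mul_assoc, hc2, mul_one]; exact C.zN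
    refine (C.lift_unique hc2 hcN' h2 h1 ?_).symm
    rw [inv_self C.zz, show z * (w⁻¹ * z * w) = (z * w⁻¹) * (z * w) by group, C.z_mul (inv_mem hwM),
      C.z_mul hwM, inv_inv, show w * z * (w⁻¹ * z) = w * (z * w⁻¹) * z by group, C.z_mul (inv_mem hwM),
      inv_inv, show w * (w * z) * z = w * w * (z * z) by group, C.zz, mul_one]
    exact mul_mem hwM hwM
  have hw1 := C.conj_z_cancel hwM hv
  refine ⟨inv_mul_eq_one.1 hw1, C.mem_dd.2 ⟨?_, ?_⟩⟩
  · rw [hn, hw1, mul_one] at h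
    exact h
  · calc c⁻¹ * c' * z = c⁻¹ * z * c' := by rw [mul_assoc, hc', mul_assoc]
      _ = z * (c⁻¹ * c') := by
        rw [show c⁻¹ * z = z * c⁻¹ by
          calc c⁻¹ * z = c⁻¹ * (z * c) * c⁻¹ := by group
            _ = z * c⁻¹ := by rw [← hc]; group, mul_assoc]

theorem exists_cent_out : ∃ c : G, c * z = z * c ∧ c ∉ Nm M := by
  obtain ⟨i, -, hiN⟩ := C.exists_out
  obtain ⟨-, -, c, hc, hcN, -⟩ := C.decomp hiN
  exact ⟨c, hc, hcN⟩

/-- If two different cosets of `D` outside `N` centralise `z`, then `D = {1, z}`. -/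
theorem dd_small {c c' : G} (hc : c * z = z * c) (hcN : c ∉ Nm M) (hc' : c' * z = z * c')
    (hcN' : c' ∉ Nm M) (hne : c⁻¹ * c' ∉ Nm M) {d : G} (hd : d ∈ Dd M z) : d = 1 ∨ d = z := by
  obtain ⟨hcc, hci⟩ := C.cent_out hc hcN
  obtain ⟨hcc', hci'⟩ := C.cent_out hc' hcN'
  rw [inv_self hcc] at hne
  obtain ⟨-, hinv⟩ := C.cent_out (by rw [mul_assoc, hc', ← mul_assoc, hc, mul_assoc]) hne
  by_cases h1 : d = 1
  · exact Or.inl h1
  refine Or.inr (C.invol_dd hd ?_ h1)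
  have h := hinv d hd
  have hprod : (c * c') * (c * c') = 1 := (C.cent_out (by rw [mul_assoc, hc', ← mul_assoc, hc, mul_assoc]) hne).1
  have h3 : c * c' * d * (c * c')⁻¹ = d := by
    rw [mul_inv_rev, inv_self hcc, inv_self hcc', show c * c' * d * (c' * c) = c * (c' * d * c') * c by group,
      hci' d hd, hci d⁻¹ (inv_mem hd), inv_inv]
  rw [inv_self hprod, h] at h3
  calc d * d = d⁻¹⁻¹ * d := by rw [inv_inv]
    _ = 1 := by rw [h3, inv_mul_cancel]

/-- The involutions and `D` are in bijection with `M` and the cosets of `M`. -/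
theorem card_invol_eq :
    Nat.card {g : G // orderOf g = 2} + Nat.card ↥(Dd M z) = Nat.card M + M.index := by
  classical
  have hcoord : ∀ w : {g : G // orderOf g = 2}, ∃ q : M ⊕ (G ⧸ M),
      (∀ x : M, q = Sum.inl x → w.1 = x * z) ∧ (∀ p, q = Sum.inr p → w.1 ∉ Nm M ∧ p = (w.1 : G ⧸ M)) := fun w => by
    by_cases hw : w.1 ∈ Nm M
    · obtain ⟨x, hx, e⟩ := C.invol_norm hw (orderOf_two.1 w.2).1 (orderOf_two.1 w.2).2
      exact ⟨Sum.inl ⟨x, hx⟩, fun y hy => by rw [e, ← Sum.inl_injective hy], fun p hp => (Sum.inl_ne_inr hp).elim⟩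
    · exact ⟨Sum.inr (w.1 : G ⧸ M), fun y hy => (Sum.inr_ne_inl hy).elim,
        fun p hp => ⟨hw, (Sum.inr_injective hp).symm⟩⟩
  choose q hql hqr using hcoord
  let F : {g : G // orderOf g = 2} ⊕ ↥(Dd M z) → M ⊕ (G ⧸ M) :=
    Sum.elim q fun d => Sum.inr ((d : G) : G ⧸ M)
  have hinj : Function.Injective F := by
    rintro (v | d) (w | e) h
    · simp only [F, Sum.elim_inl] at h
      congr 1
      refine Subtype.ext ?_
      rcases hv : q v with x | p <;> rcases hw : q w with y | r <;> rw [hv, hw] at h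
      · rw [hql v x hv, hql w y hw, Sum.inl_injective h]
      · exact (Sum.inl_ne_inr h).elim
      · exact (Sum.inr_ne_inl h).elim
      · obtain ⟨hvN, rfl⟩ := hqr v p hv
        obtain ⟨-, rfl⟩ := hqr w r hw
        exact C.coset_invol_unique (orderOf_two.1 v.2).1 hvN (orderOf_two.1 w.2).1
          (QuotientGroup.eq.1 (Sum.inr_injective h))
    · simp only [F, Sum.elim_inl, Sum.elim_inr] at h
      exfalso
      obtain ⟨hvN, he⟩ := hqr v _ h
      refine hvN ?_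
      have := QuotientGroup.eq.1 he
      have h2 := mul_mem (C.mem_dd.1 e.2).1 (Subgroup.le_normalizer this)
      rwa [mul_inv_cancel_left] at h2
    · simp only [F, Sum.elim_inl, Sum.elim_inr] at h
      exfalso
      obtain ⟨hvN, he⟩ := hqr w _ h.symm
      refine hvN ?_
      have := QuotientGroup.eq.1 he
      have h2 := mul_mem (C.mem_dd.1 d.2).1 (Subgroup.le_normalizer this)
      rwa [mul_inv_cancel_left] at h2
    · simp only [F, Sum.elim_inr] at h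
      have hm := QuotientGroup.eq.1 (Sum.inr_injective h)
      congr 1
      exact Subtype.ext (inv_mul_eq_one.1 (C.mem_M_dd hm (mul_mem (inv_mem d.2) e.2)))
  have hsurj : Function.Surjective F := by
    rintro (x | p)
    · have hw := C.norm_invol x.2
      refine ⟨Sum.inl ⟨x * z, orderOf_two.2 ⟨hw.2.1, hw.2.2⟩⟩, ?_⟩
      show q _ = _
      rcases hq : q ⟨x * z, orderOf_two.2 ⟨hw.2.1, hw.2.2⟩⟩ with y | r
      · congr 1
        exact Subtype.ext (mul_right_cancel (hql _ y hq)).symm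
      · exact absurd hw.1 (hqr _ r hq).1
    · obtain ⟨g, rfl⟩ := QuotientGroup.mk_surjective p
      by_cases hg : g ∈ Nm M
      · obtain ⟨x, hx, d, hd, rfl⟩ := C.fac g hg
        refine ⟨Sum.inr ⟨d, hd⟩, congrArg Sum.inr (QuotientGroup.eq.2 ?_)⟩
        rw [← mul_assoc]
        exact C.norm_conj' (C.mem_dd.1 hd).1 hx
      · obtain ⟨i, hi, hiN, hm⟩ := C.exists_invol hg
        have hi1 : i ≠ 1 := fun e => hiN (e ▸ one_mem _)
        refine ⟨Sum.inl ⟨i, orderOf_two.2 ⟨hi, hi1⟩⟩, ?_⟩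
        show q _ = _
        rcases hq : q ⟨i, orderOf_two.2 ⟨hi, hi1⟩⟩ with y | r
        · have e : i = (y : G) * z := hql _ y hq
          exact absurd (e.symm ▸ mul_mem (Subgroup.le_normalizer y.2) C.zN : i ∈ Nm M) hiN
        · rw [(hqr _ r hq).2]
          exact congrArg Sum.inr (QuotientGroup.eq.2 (by
            have := inv_mem hm
            rwa [mul_inv_rev, inv_inv] at this))
  have := Nat.card_eq_of_bijective F ⟨hinj, hsurj⟩
  rwa [Nat.card_sum, Nat.card_sum] at this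

theorem card_norm : Nat.card ↥(Nm M) = Nat.card M * Nat.card ↥(Dd M z) := by
  rw [← Nat.card_prod]
  refine (Nat.card_eq_of_bijective (fun p : M × ↥(Dd M z) =>
    (⟨(p.1 : G) * p.2, mul_mem (Subgroup.le_normalizer p.1.2) (C.mem_dd.1 p.2.2).1⟩ : ↥(Nm M))) ⟨?_, ?_⟩).symm
  · intro p q h
    obtain ⟨h1, h2⟩ := C.decomp_unique p.1.2 q.1.2 p.2.2 q.2.2 (congrArg Subtype.val h)
    exact Prod.ext (Subtype.ext h1) (Subtype.ext h2)
  · rintro ⟨n, hn⟩
    obtain ⟨x, hx, d, hd, rfl⟩ := C.fac n hn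
    exact ⟨(⟨x, hx⟩, ⟨d, hd⟩), rfl⟩

theorem index_M : M.index = Nat.card ↥(Dd M z) * (Nm M).index := by
  refine Nat.eq_of_mul_eq_mul_left (Nat.card_pos (α := M)) ?_
  rw [Subgroup.card_mul_index, ← mul_assoc, ← C.card_norm, Subgroup.card_mul_index]

theorem class_le : (Subgroup.centralizer ({z} : Set G)).index ≤ Nat.card {g : G // orderOf g = 2} := by
  refine Nat.card_le_card_of_injective
    (fun q : G ⧸ Subgroup.centralizer ({z} : Set G) => (⟨q.out * z * q.out⁻¹,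
      orderOf_two.2 ⟨conj_mul_self C.zz _, fun h => C.z1 (by
        calc z = q.out⁻¹ * (q.out * z * q.out⁻¹) * q.out := by group
          _ = 1 := by rw [h]; group)⟩⟩ : {g : G // orderOf g = 2})) fun p q h => ?_
  have h' : p.out * z * p.out⁻¹ = q.out * z * q.out⁻¹ := congrArg Subtype.val h
  rw [← QuotientGroup.out_eq' p, ← QuotientGroup.out_eq' q, QuotientGroup.eq,
    Subgroup.mem_centralizer_singleton_iff]
  calc p.out⁻¹ * q.out * z = p.out⁻¹ * (q.out * z * q.out⁻¹) * q.out := by group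
    _ = z * (p.out⁻¹ * q.out) := by rw [← h']; group

end Ctx

end Cfsg.Agent.Solv.TICount
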