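/-
The doubly transitive case: the centraliser of `z` is `D` and one more coset.
-/
import Cfsg.Agent.Lib.Solv.TICount.Basic
import Cfsg.Agent.Lib.Lie.SharpPGL
import Cfsg.Agent.Lib.Lie.ZassenhausHalf
import Cfsg.Agent.Lib.Lie.ZassenhausKernel
import Cfsg.Agent.Lib.Lie.Feit.Main

set_option autoImplicit false
set_option linter.style.haveILetI false

namespace Cfsg.Agent.Solv.TICount

open MulAction
open Cfsg.Agent.Lie.Zassenhaus

universe u

theorem regular_elems {G Ω : Type*} [Group G] [MulAction G Ω] (R : Subgroup G) (ht : IsPretransitive R Ω)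
    (hR : ∀ a : Ω, stabilizer R a = ⊥) :
    (∀ a b : Ω, ∃ r ∈ R, r • a = b) ∧ ∀ r ∈ R, ∀ a : Ω, r • a = a → r = 1 := by
  haveI := ht
  refine ⟨fun a b => ?_, fun r hr a ha => ?_⟩
  · obtain ⟨⟨r, hr⟩, h⟩ := exists_smul_eq R a b
    exact ⟨r, hr, h⟩
  · have h : (⟨r, hr⟩ : R) ∈ stabilizer R a := ha
    rw [hR, Subgroup.mem_bot] at h
    exact congrArg Subtype.val h

theorem regular_ea {G Ω : Type*} [Group G] [Finite G] [MulAction G Ω] [FaithfulSMul G Ω] [Nontrivial Ω]
    (h2 : IsMultiplyPretransitive G Ω 2) (R : Subgroup G) [R.Normal] (ht : ∀ a b : Ω, ∃ r ∈ R, r • a = b)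
    (hs : ∀ r ∈ R, ∀ a : Ω, r • a = a → r = 1) :
    IsMulCommutative R ∧ ∃ p : ℕ, p.Prime ∧ IsPGroup p R ∧ ∀ x ∈ R, x ^ p = 1 := by
  haveI : IsPretransitive R Ω := ⟨fun a b => by obtain ⟨r, hr, h⟩ := ht a b; exact ⟨⟨r, hr⟩, h⟩⟩
  exact regular_normal_elementary h2 R fun a => (Subgroup.eq_bot_iff_forall _).2 fun r hr =>
    Subtype.ext (hs r r.2 a hr)

variable {G : Type u} [Group G] [Finite G] {M : Subgroup G} {z : G}

/-- The two-point case. -/
structure TwoCase (M : Subgroup G) (z c : G) : Prop where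
  ctx : Ctx M z
  cz : c * z = z * c
  cN : c ∉ Nm M
  one : ∀ c', c' * z = z * c' → c' ∉ Nm M → c⁻¹ * c' ∈ Nm M

namespace TwoCase

variable {c : G} (T : TwoCase M z c)
include T

local notation "α" => ((1 : G) : G ⧸ Nm M)

theorem fix_one (g : G) : g • α = α ↔ g ∈ Nm M := by
  rw [MulAction.Quotient.smul_mk, eq_comm, QuotientGroup.eq, inv_one, one_mul, smul_eq_mul, mul_one]

theorem smul_one' (g : G) : g • α = (g : G ⧸ Nm M) := by
  rw [MulAction.Quotient.smul_mk, smul_eq_mul, mul_one]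

theorem cc : c * c = 1 := (T.ctx.cent_out T.cz T.cN).1

theorem c_inv (d : G) (hd : d ∈ Dd M z) : c * d * c = d⁻¹ := (T.ctx.cent_out T.cz T.cN).2 d hd

theorem beta_ne : (c : G ⧸ Nm M) ≠ α := fun h => T.cN ((T.fix_one c).1 (by rw [T.smul_one']; exact h))

theorem point {p : G ⧸ Nm M} (hp : p ≠ α) : ∃ x ∈ M, p = x • (c : G ⧸ Nm M) := by
  obtain ⟨g, rfl⟩ := QuotientGroup.mk_surjective p
  have hg : g ∉ Nm M := fun h => hp (by rw [← T.smul_one', (T.fix_one g).2 h])
  obtain ⟨x, hx, c', hc', hcN', he⟩ := T.ctx.decomp hg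
  refine ⟨x, hx, ?_⟩
  rw [he, MulAction.Quotient.smul_mk, smul_eq_mul, QuotientGroup.eq,
    show (x * c')⁻¹ * (x * c) = (c⁻¹ * c')⁻¹ by group]
  exact inv_mem (T.one c' hc' hcN')

theorem point_unique {x y : G} (hx : x ∈ M) (hy : y ∈ M)
    (h : x • (c : G ⧸ Nm M) = y • (c : G ⧸ Nm M)) : x = y :=
  (T.ctx.decomp_eq hx hy T.cz T.cz T.cN h).1

theorem point_ne {x : G} (hx : x ∈ M) : x • (c : G ⧸ Nm M) ≠ α := fun h => T.beta_ne (by
  have := congrArg (x⁻¹ • ·) h
  simp only [inv_smul_smul] at this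
  rw [this, (T.fix_one _).2 (inv_mem (Subgroup.le_normalizer hx))])

theorem two_eq {g : G} : g • α = α ∧ g • (c : G ⧸ Nm M) = (c : G ⧸ Nm M) ↔ g ∈ Dd M z := by
  rw [T.fix_one, MulAction.Quotient.smul_mk, smul_eq_mul, eq_comm, QuotientGroup.eq, inv_self T.cc]
  constructor
  · rintro ⟨hg, hg'⟩
    rw [← mul_assoc] at hg'
    refine T.ctx.mem_dd.2 ⟨hg, T.ctx.H_comm T.cc T.cN hg hg' T.ctx.zN ?_⟩
    rw [T.cz, mul_assoc, T.cc, mul_one]
    exact T.ctx.zN
  · intro hg
    refine ⟨(T.ctx.mem_dd.1 hg).1, ?_⟩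
    rw [← mul_assoc, T.c_inv g hg]
    exact inv_mem (T.ctx.mem_dd.1 hg).1

theorem stab_eq : stabilizer G α ⊓ stabilizer G (c : G ⧸ Nm M) = Dd M z := by
  ext g
  rw [Subgroup.mem_inf, mem_stabilizer_iff, mem_stabilizer_iff]
  exact T.two_eq

theorem c_swap : c • α = (c : G ⧸ Nm M) ∧ c • (c : G ⧸ Nm M) = α := by
  refine ⟨T.smul_one' c, ?_⟩
  rw [MulAction.Quotient.smul_mk, smul_eq_mul, T.cc]

theorem card_points [Fintype (G ⧸ Nm M)] : Fintype.card (G ⧸ Nm M) = Nat.card M + 1 := by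
  classical
  rw [← Nat.card_eq_fintype_card, show Nat.card M + 1 = Nat.card (Option M) from Finite.card_option.symm]
  refine (Nat.card_eq_of_bijective (fun o : Option M => o.elim α fun x => (x : G) • (c : G ⧸ Nm M)) ⟨?_, ?_⟩).symm
  · rintro (_ | x) (_ | y) h
    · rfl
    · exact absurd h.symm (T.point_ne y.2)
    · exact absurd h (T.point_ne x.2)
    · exact congrArg some (Subtype.ext (T.point_unique x.2 y.2 h))
  · intro p
    by_cases hp : p = α
    · exact ⟨none, hp.symm⟩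
    · obtain ⟨x, hx, rfl⟩ := T.point hp
      exact ⟨some ⟨x, hx⟩, rfl⟩

theorem two_trans : IsMultiplyPretransitive G (G ⧸ Nm M) 2 := by
  rw [is_two_pretransitive_iff]
  have key : ∀ a b : G ⧸ Nm M, a ≠ b → ∃ g : G, g • α = a ∧ g • (c : G ⧸ Nm M) = b := by
    intro a b hab
    obtain ⟨h, rfl⟩ := QuotientGroup.mk_surjective a
    have hne : h⁻¹ • b ≠ α := fun e => hab (by rw [← T.smul_one', ← e, smul_inv_smul])
    obtain ⟨x, hx, hxe⟩ := T.point hne
    refine ⟨h * x, ?_, ?_⟩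
    · rw [mul_smul, (T.fix_one x).2 (Subgroup.le_normalizer hx), T.smul_one']
    · rw [mul_smul, ← hxe, smul_inv_smul]
  intro a b a' b' hab hab'
  obtain ⟨g, hga, hgb⟩ := key a b hab
  obtain ⟨g', hga', hgb'⟩ := key a' b' hab'
  exact ⟨g' * g⁻¹, by rw [mul_smul, ← hga, inv_smul_smul, hga'], by rw [mul_smul, ← hgb, inv_smul_smul, hgb']⟩

theorem fixed_left {d x : G} (hd : d ∈ Dd M z) (hx : x ∈ M)
    (h : d • x • (c : G ⧸ Nm M) = x • (c : G ⧸ Nm M)) : d * x = x * d := by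
  have hdN := (T.ctx.mem_dd.1 hd).1
  rw [smul_smul, show d * x = d * x * d⁻¹ * d by group, mul_smul, (T.two_eq.2 hd).2] at h
  exact mul_inv_eq_iff_eq_mul.1 (T.point_unique (T.ctx.norm_conj hdN hx) hx h)

theorem fixed_right {d : G} (hd : d ∈ Dd M z) {p : G ⧸ Nm M} (hp : p ≠ (c : G ⧸ Nm M)) (h : d • p = p) :
    ∃ y : G, d * y = y * d ∧ y • α = p ∧ y • (c : G ⧸ Nm M) = (c : G ⧸ Nm M) := by
  have hne : c • p ≠ α := fun e => hp (by
    rw [← inv_smul_smul c p, e, inv_self T.cc, T.smul_one'])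
  obtain ⟨x, hx, hxe⟩ := T.point hne
  have hcd : c * d = d⁻¹ * c := by rw [← T.c_inv d hd, mul_assoc _ c c, T.cc, mul_one]
  have hdc : d * c = c * d⁻¹ := by
    calc d * c = c * (c * d * c) := by rw [← mul_assoc, ← mul_assoc, T.cc, one_mul]
      _ = c * d⁻¹ := by rw [T.c_inv d hd]
  have h2 : d • c • p = c • p := by
    rw [smul_smul, hdc, mul_smul]
    congr 1
    rw [inv_smul_eq_iff, h]
  rw [hxe] at h2
  have hcomm := T.fixed_left hd hx h2
  refine ⟨c * x * c, ?_, ?_, ?_⟩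
  · calc d * (c * x * c) = d * c * x * c := by group
      _ = c * (d⁻¹ * x) * c := by rw [hdc]; group
      _ = c * (x * d⁻¹) * c := by rw [(show Commute d x from hcomm).inv_left.eq]
      _ = c * x * (d⁻¹ * c) := by group
      _ = c * x * c * d := by rw [← hcd]; group
  · rw [mul_smul, mul_smul, T.c_swap.1, ← hxe, smul_smul, T.cc, one_smul]
  · rw [mul_smul, mul_smul, T.c_swap.2, (T.fix_one x).2 (Subgroup.le_normalizer hx), T.c_swap.1]

/-- `D` acts fixed-point-freely on `M`. -/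
theorem fpf {d x : G} (hd : d ∈ Dd M z) (hd1 : d ≠ 1) (hx : x ∈ M) (h : d * x = x * d) : x = 1 := by
  by_cases h2 : d * d = 1
  · exact T.ctx.no_invol_cent hx h2 hd1 h
  by_contra hx1
  set β := (c : G ⧸ Nm M) with hβ
  have hfixd : ∀ y : G, d * y = y * d → d • y • β = y • β := fun y hy => by
    rw [smul_smul, hy, mul_smul, (T.two_eq.2 hd).2]
  have hxne : ∀ y ∈ M, y ≠ 1 → y • β ≠ β := fun y hy hy1 e =>
    hy1 (T.point_unique hy (one_mem M) (by rw [one_smul]; exact e))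
  obtain ⟨y, hy, hya, hyb⟩ := T.fixed_right hd (hxne x hx hx1) (hfixd x h)
  have hxi : d * x⁻¹ = x⁻¹ * d := (show Commute d x from h).inv_right.eq
  have hx1' : x⁻¹ ≠ 1 := fun e => hx1 (inv_eq_one.1 e)
  obtain ⟨w, hw, hwa, hwb⟩ := T.fixed_right hd (hxne _ (inv_mem hx) hx1') (hfixd _ hxi)
  set s := w⁻¹ * (x⁻¹ * y) with hs
  have hsa : s • α = β := by
    rw [hs, mul_smul, mul_smul, hya, inv_smul_smul, inv_smul_eq_iff, hwb]
  have hsb : s • β = α := by
    rw [hs, mul_smul, mul_smul, hyb, inv_smul_eq_iff, hwa]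
  have hsd : d * s = s * d := by
    refine (Commute.mul_right (show Commute d w⁻¹ from (show Commute d w from hw).inv_right)
      (Commute.mul_right ?_ ?_)).eq
    · exact hxi
    · exact hy
  have he : c * s ∈ Dd M z := T.two_eq.1 ⟨by rw [mul_smul, hsa, T.c_swap.2], by rw [mul_smul, hsb, T.c_swap.1]⟩
  refine h2 ?_
  have hcomm := T.ctx.dd_comm hd he
  have h4 : d * c = c * d⁻¹ := by
    rw [← T.c_inv d hd, ← mul_assoc, ← mul_assoc, T.cc, one_mul]
  have h5 : c * s * d⁻¹ = c * s * d := by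
    calc c * s * d⁻¹ = c * (d⁻¹ * s) := by rw [mul_assoc, (show Commute d s from hsd).inv_left.eq]
      _ = d * (c * s) := by rw [← mul_assoc, ← h4, mul_assoc]
      _ = c * s * d := hcomm
  have h6 := mul_left_cancel h5
  rwa [inv_eq_iff_mul_eq_one] at h6

theorem three : ThreePoint G (G ⧸ Nm M) := by
  intro g a b e hab hbe hae hga hgb hge
  obtain ⟨h, hha, hhb⟩ := (is_two_pretransitive_iff.1 T.two_trans) T.beta_ne.symm hab
  have hd : h⁻¹ * g * h ∈ Dd M z := T.two_eq.1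
    ⟨by rw [mul_smul, mul_smul, hha, hga, ← hha, inv_smul_smul],
      by rw [mul_smul, mul_smul, hhb, hgb, ← hhb, inv_smul_smul]⟩
  have hne : h⁻¹ • e ≠ α := fun he => hae (by rw [← hha, ← he, smul_inv_smul])
  obtain ⟨x, hx, hxe⟩ := T.point hne
  have hfix : (h⁻¹ * g * h) • x • (c : G ⧸ Nm M) = x • (c : G ⧸ Nm M) := by
    rw [← hxe, mul_smul, mul_smul, smul_inv_smul, hge]
  by_contra hg1
  have hd1 : h⁻¹ * g * h ≠ 1 := fun e1 => hg1 (by
    calc g = h * (h⁻¹ * g * h) * h⁻¹ := by group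
      _ = 1 := by rw [e1]; group)
  have hx1 := T.fpf hd hd1 hx (T.fixed_left hd hx hfix)
  refine hbe ?_
  rw [hx1, one_smul] at hxe
  rw [← hhb, ← hxe, smul_inv_smul]

theorem two_le_M : 3 ≤ Nat.card M := by
  obtain ⟨k, hk⟩ := T.ctx.odd_M
  have : Nat.card M ≠ 1 := fun h => T.ctx.ne (Subgroup.card_eq_one.1 h)
  omega

theorem faithful : FaithfulSMul G (G ⧸ Nm M) := by
  refine ⟨fun {g g'} h => ?_⟩
  obtain ⟨x, hx, hx1⟩ := (Subgroup.bot_or_exists_ne_one M).resolve_left T.ctx.ne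
  have hf : ∀ p : G ⧸ Nm M, (g'⁻¹ * g) • p = p := fun p => by rw [mul_smul, h p, inv_smul_smul]
  exact (inv_mul_eq_one.1 (T.three (g'⁻¹ * g) α (c : G ⧸ Nm M) (x • (c : G ⧸ Nm M)) T.beta_ne.symm
    (fun e => hx1 (T.point_unique (one_mem M) hx (by rw [one_smul]; exact e)).symm)
    (T.point_ne hx).symm (hf _) (hf _) (hf _))).symm

theorem card_cent : Nat.card ↥(Subgroup.centralizer ({z} : Set G)) = 2 * Nat.card ↥(Dd M z) := by
  classical
  rw [← Nat.card_fin 2, ← Nat.card_prod]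
  have hcm : ∀ k : Fin 2, (if k = 0 then (1 : G) else c) * z = z * (if k = 0 then (1 : G) else c) := fun k => by
    split_ifs
    · rw [one_mul, mul_one]
    · exact T.cz
  refine (Nat.card_eq_of_bijective (fun p : Fin 2 × ↥(Dd M z) =>
    (⟨(if p.1 = 0 then (1 : G) else c) * p.2, Subgroup.mem_centralizer_singleton_iff.2 (by
      rw [mul_assoc, (T.ctx.mem_dd.1 p.2.2).2, ← mul_assoc, hcm, mul_assoc])⟩ :
        ↥(Subgroup.centralizer ({z} : Set G)))) ⟨?_, ?_⟩).symm
  · rintro ⟨k, d⟩ ⟨l, e⟩ h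
    have h' := congrArg Subtype.val h
    simp only at h'
    have hdN := (T.ctx.mem_dd.1 d.2).1
    have heN := (T.ctx.mem_dd.1 e.2).1
    fin_cases k <;> fin_cases l <;> simp at h' ⊢
    · exact h'
    · exact absurd (by rw [show c = d * (e : G)⁻¹ by rw [h']; group]; exact mul_mem hdN (inv_mem heN)) T.cN
    · exact absurd (by rw [show c = e * (d : G)⁻¹ by rw [← h']; group]; exact mul_mem heN (inv_mem hdN)) T.cN
    · exact h'
  · rintro ⟨g, hg⟩
    have hg' := Subgroup.mem_centralizer_singleton_iff.1 hg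
    by_cases hgN : g ∈ Nm M
    · exact ⟨(0, ⟨g, T.ctx.mem_dd.2 ⟨hgN, hg'⟩⟩), Subtype.ext (one_mul g)⟩
    · refine ⟨(1, ⟨c⁻¹ * g, T.ctx.mem_dd.2 ⟨T.one g hg' hgN, ?_⟩⟩), Subtype.ext (mul_inv_cancel_left c g)⟩
      calc c⁻¹ * g * z = c⁻¹ * z * g := by rw [mul_assoc, hg', mul_assoc]
        _ = c⁻¹ * (z * c) * c⁻¹ * g := by group
        _ = z * (c⁻¹ * g) := by rw [← T.cz]; group

theorem index_N : (Nm M).index = Nat.card M + 1 := by
  haveI := Fintype.ofFinite (G ⧸ Nm M)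
  rw [Subgroup.index, Nat.card_eq_fintype_card, T.card_points]

theorem half_le : Nat.card M - 1 ≤ 2 * Nat.card ↥(Dd M z) := by
  have h1 := T.ctx.class_le
  have h2 := T.ctx.card_invol_eq
  rw [T.ctx.index_M, T.index_N] at h2
  have h3 := Subgroup.card_mul_index (Subgroup.centralizer ({z} : Set G))
  rw [T.card_cent, ← Subgroup.card_mul_index (Nm M), T.ctx.card_norm, T.index_N] at h3
  have hD : 0 < Nat.card ↥(Dd M z) := Nat.card_pos
  have hm : 0 < Nat.card M := Nat.card_pos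
  set m := Nat.card M
  set e := Nat.card ↥(Dd M z)
  set K := (Subgroup.centralizer ({z} : Set G)).index
  set I := Nat.card {g : G // orderOf g = 2}
  have h4 : 2 * K = m * (m + 1) := by nlinarith
  have h5 : I = m + m * e := by nlinarith
  have h6 : m * (m + 1) ≤ m * (2 + 2 * e) := by nlinarith
  have := Nat.le_of_mul_le_mul_left h6 hm
  omega

/-- Conjugation of `D` on `M`. -/
theorem exists_conj_action : ∃ ρ : ↥(Dd M z) →* MulAut M, ∀ (g : ↥(Dd M z)) (x : M),
    ((ρ g x : M) : G) = (g : G) * x * (g : G)⁻¹ := by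
  refine ⟨{
    toFun := fun g =>
      { toFun := fun x => ⟨(g : G) * x * (g : G)⁻¹, T.ctx.norm_conj (T.ctx.mem_dd.1 g.2).1 x.2⟩
        invFun := fun x => ⟨(g : G)⁻¹ * x * g, T.ctx.norm_conj' (T.ctx.mem_dd.1 g.2).1 x.2⟩
        left_inv := fun x => Subtype.ext (by simp [mul_assoc])
        right_inv := fun x => Subtype.ext (by simp [mul_assoc])
        map_mul' := fun x y => Subtype.ext (by simp [mul_assoc]) }
    map_one' := MulEquiv.ext fun x => Subtype.ext (by simp)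
    map_mul' := fun g h => MulEquiv.ext fun x => Subtype.ext (by simp [mul_assoc]) }, fun g x => rfl⟩

theorem elementary : ∃ p f : ℕ, p.Prime ∧ Cfsg.IsElementaryAbelian p M ∧ Nat.card M = p ^ f := by
  obtain ⟨ρ, hρ⟩ := T.exists_conj_action
  haveI : Nontrivial M := (Subgroup.nontrivial_iff_ne_bot M).2 T.ctx.ne
  obtain ⟨hc, p, f, hp, hexp, hcard⟩ := Cfsg.Agent.Lie.ZassenhausKernel.elementary_of_two_orbits ρ
    (fun g x hx h => by
      by_contra hg
      refine hx (Subtype.ext (T.fpf g.2 (fun e => hg (Subtype.ext e)) x.2 ?_))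
      exact mul_inv_eq_iff_eq_mul.1 ((hρ g x).symm.trans (congrArg Subtype.val h))) T.half_le
  exact ⟨p, f, hp, ⟨hc, fun a ha => by simpa using congrArg Subtype.val (hexp ⟨a, ha⟩)⟩, hcard⟩

theorem ea_ringChar {F : Type} [Field F] [Fintype F] (hF : Fintype.card F = Nat.card M) :
    ∃ (p : ℕ) (_ : Fact p.Prime) (_ : CharP F p), Cfsg.IsElementaryAbelian p M := by
  obtain ⟨p, f, hp, hE, hcard⟩ := T.elementary
  haveI hc : CharP F (ringChar F) := ringChar.charP F
  obtain ⟨n, hn, hn'⟩ := FiniteField.card F (ringChar F)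
  have : ringChar F = p := (Nat.prime_dvd_prime_iff_eq hn hp).1 (hn.dvd_of_dvd_pow (n := f) (by
    rw [← hcard, ← hF, hn']; exact dvd_pow_self _ n.ne_zero))
  exact ⟨p, ⟨hp⟩, this ▸ hc, hE⟩

theorem no_regular (hm : 3 < Nat.card M) (R : Subgroup G) [R.Normal]
    (hRt : ∀ a b : G ⧸ Nm M, ∃ r ∈ R, r • a = b)
    (hR : ∀ r ∈ R, ∀ a : G ⧸ Nm M, r • a = a → r = 1) : False := by
  haveI := T.faithful
  haveI : Fintype (G ⧸ Nm M) := Fintype.ofFinite _
  haveI : Nontrivial (G ⧸ Nm M) := ⟨⟨_, _, T.beta_ne⟩⟩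
  obtain ⟨⟨⟨hc⟩⟩, p, hp, hP, hexp⟩ := regular_ea T.two_trans R hRt hR
  have hcard : Nat.card R = Nat.card M + 1 := by
    rw [← T.card_points, ← Nat.card_eq_fintype_card]
    refine Nat.card_eq_of_bijective (fun r : R => (r : G) • α) ⟨fun r s h => ?_, fun q => ?_⟩
    · have := hR _ (s⁻¹ * r).2 α (by
        rw [Subgroup.coe_mul, Subgroup.coe_inv, mul_smul]
        exact inv_smul_eq_iff.2 h)
      exact (inv_mul_eq_one.1 (show s⁻¹ * r = 1 from Subtype.ext this)).symm
    · obtain ⟨r, hr, h⟩ := hRt α q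
      exact ⟨⟨r, hr⟩, h⟩
  obtain ⟨k, hk⟩ := T.ctx.odd_M
  haveI := Fact.mk hp
  have h2 : p = 2 := by
    obtain ⟨j, hj⟩ := hP.exists_card_eq
    exact ((Nat.prime_dvd_prime_iff_eq Nat.prime_two hp).1 (Nat.prime_two.dvd_of_dvd_pow (n := j)
      (by rw [← hj, hcard, hk]; omega))).symm
  subst h2
  -- `z` centralises at most two elements of `R`
  have hzconj : ∀ r : R, z * (r : G) * z ∈ R := fun r => by
    have := (inferInstance : R.Normal).conj_mem _ r.2 z
    rwa [inv_self T.ctx.zz] at this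
  let φ : R →* R :=
    { toFun := fun r => r * ⟨z * r * z, hzconj r⟩
      map_one' := Subtype.ext (by simp [T.ctx.zz])
      map_mul' := fun r s => by
        have e : (⟨z * ((r * s : R) : G) * z, hzconj (r * s)⟩ : R) = ⟨z * r * z, hzconj r⟩ * ⟨z * s * z, hzconj s⟩ :=
          Subtype.ext (by
            simp only [Subgroup.coe_mul, mul_assoc]
            rw [← mul_assoc z z, T.ctx.zz, one_mul])
        rw [e, mul_assoc r, ← mul_assoc s, hc s, mul_assoc, ← mul_assoc r] }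
  have hsq : ∀ r : R, (r : G) * r = 1 := fun r => by rw [← pow_two]; exact hexp r r.2
  have hfixed : ∀ r : R, z * (r : G) * z = r → (r : G) • α = α ∨ (r : G) • α = (c : G ⧸ Nm M) := by
    intro r hr
    by_cases h1 : (r : G) • α = α
    · exact Or.inl h1
    refine Or.inr ?_
    obtain ⟨x, hx, hxe⟩ := T.point h1
    have hz : z • x • (c : G ⧸ Nm M) = x • (c : G ⧸ Nm M) := by
      rw [← hxe, smul_smul, show z * (r : G) = r * z by
        calc z * (r : G) = z * r * z * z := by rw [mul_assoc _ z z, T.ctx.zz, mul_one]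
          _ = r * z := by rw [hr], mul_smul, (T.fix_one z).2 T.ctx.zN]
    rw [hxe, T.ctx.no_invol_cent hx T.ctx.zz T.ctx.z1 (T.fixed_left T.ctx.z_mem hx hz), one_smul]
  have hle2 : ∀ S : Subgroup R, (∀ r ∈ S, z * (r : G) * z = r) → Nat.card S ≤ 2 := by
    intro S hS
    classical
    have hinj : Function.Injective (fun r : S => decide (((r : R) : G) • α = α)) := by
      intro r s h
      simp only [decide_eq_decide] at h
      have he : ((r : R) : G) • α = ((s : R) : G) • α := by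
        rcases hfixed r (hS r r.2) with hr | hr
        · rw [hr, h.1 hr]
        · rcases hfixed s (hS s s.2) with hs | hs
          · rw [hs, h.2 hs]
          · rw [hr, hs]
      have hm' := hR _ ((s : R)⁻¹ * (r : R)).2 α (by
        rw [Subgroup.coe_mul, Subgroup.coe_inv, mul_smul]
        exact inv_smul_eq_iff.2 he)
      exact Subtype.ext (inv_mul_eq_one.1 (show (s : R)⁻¹ * (r : R) = 1 from Subtype.ext hm')).symm
    simpa using Nat.card_le_card_of_injective _ hinj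
  have hker := hle2 φ.ker fun r hr => by
    have h1 : (r : G) * (z * r * z) = 1 := congrArg Subtype.val (MonoidHom.mem_ker.1 hr)
    exact mul_left_cancel (h1.trans (hsq r).symm)
  have hrange := hle2 φ.range fun r hr => by
    obtain ⟨s, rfl⟩ := hr
    show z * ((s : G) * (z * s * z)) * z = (s : G) * (z * s * z)
    rw [show z * ((s : G) * (z * s * z)) * z = z * s * z * s * (z * z) by group, T.ctx.zz, mul_one]
    exact congrArg Subtype.val (hc ⟨z * s * z, hzconj s⟩ s)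
  have htot : Nat.card φ.ker * Nat.card φ.range = Nat.card R := by
    rw [← Subgroup.index_ker φ, Subgroup.card_mul_index]
  have := Nat.mul_le_mul hker hrange
  omega

/-- The conclusion in the doubly transitive case. -/
theorem conclusion : ∃ (F : Type) (_ : Field F) (_ : Fintype F) (p : ℕ) (_ : Fact p.Prime) (_ : CharP F p),
    Fintype.card F = Nat.card M ∧ Cfsg.IsElementaryAbelian p M ∧
      (Nonempty (G ≃* Matrix.ProjGenLinGroup (Fin 2) F) ∨
       (Fintype.card F % 4 = 1 ∧ Nonempty (G ≃* Matrix.ProjectiveSpecialLinearGroup (Fin 2) F))) := by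
  haveI := T.faithful
  haveI : Fintype (G ⧸ Nm M) := Fintype.ofFinite _
  have hm3 := T.two_le_M
  have hcard := T.card_points
  have heven : 2 ∣ Nat.card ↥(Dd M z) := by
    have := Subgroup.orderOf_dvd_natCard _ T.ctx.z_mem
    rwa [orderOf_two.2 ⟨T.ctx.zz, T.ctx.z1⟩] at this
  have hdvd := Cfsg.Agent.Lie.Feit.stab_dvd (G := G) T.three T.beta_ne.symm
  rw [T.stab_eq, hcard] at hdvd
  have hle := T.half_le
  have hpos : 0 < Nat.card ↥(Dd M z) := Nat.card_pos
  obtain ⟨k, hk⟩ := hdvd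
  set e := Nat.card ↥(Dd M z) with he
  have hcases : e + 1 = Nat.card M ∨ 2 * e + 1 = Nat.card M := by
    rcases k with _ | _ | _ | k
    · omega
    · omega
    · omega
    · exfalso
      have h1 : Nat.card M - 1 = e * (k + 1 + 1 + 1) := by omega
      nlinarith
  rcases hcases with h | h
  · refine Cfsg.Agent.Lie.SharpCoords.with_coords T.two_trans T.three T.beta_ne.symm
      (by show Nat.card ↥(stabilizer G α ⊓ stabilizer G (c : G ⧸ Nm M)) = _; rw [T.stab_eq, hcard, ← he]; omega) (by omega) ?_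
    intro p f hp V _ _ _ _ ρ π t ee τ Tm zz C
    obtain ⟨F, iF, iFF, hF, hiso⟩ := Cfsg.Agent.Lie.SharpPGL.pgl_of_comm T.two_trans T.beta_ne.symm C
      fun g g' => Subtype.ext (T.ctx.dd_comm (T.stab_eq.le g.2) (T.stab_eq.le g'.2))
    have hFM : Fintype.card F = Nat.card M := by
      have := C.card
      rw [C.pf, hcard, ← hF] at this
      omega
    obtain ⟨q, iq, icq, hE⟩ := T.ea_ringChar hFM
    exact ⟨F, iF, iFF, q, iq, icq, hFM, hE, Or.inl hiso⟩
  · have hm : 3 < Nat.card M := by obtain ⟨l, hl⟩ := heven; omega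
    have hZ : Cfsg.IsZassenhausGroup G (G ⧸ Nm M) := by
      refine ⟨T.faithful, T.two_trans, T.three, ⟨z, T.ctx.z1, _, _, T.beta_ne.symm,
        (T.two_eq.2 T.ctx.z_mem).1, (T.two_eq.2 T.ctx.z_mem).2⟩, fun R hR hRt => ?_⟩
      by_contra hno
      push Not at hno
      haveI := hR
      exact T.no_regular hm R (regular_elems R hRt hno).1 (regular_elems R hRt hno).2
    obtain ⟨F, iF, iFF, h4, hF, hiso⟩ := Cfsg.Agent.Lie.ZassenhausHalf.psl_of_half hZ T.beta_ne.symm
      (by rw [T.stab_eq]; exact even_iff_two_dvd.2 heven) (by rw [T.stab_eq, hcard, ← he]; omega)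
    have hFM : Fintype.card F = Nat.card M := by omega
    obtain ⟨q, iq, icq, hE⟩ := T.ea_ringChar hFM
    exact ⟨F, iF, iFF, q, iq, icq, hFM, hE, Or.inr ⟨h4, hiso⟩⟩

end TwoCase

end Cfsg.Agent.Solv.TICount
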