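/-
The case of an elementary abelian centraliser of `z` of order `2f ≥ 8`.
-/
import Cfsg.Agent.Lib.Solv.TICount.Basic

set_option autoImplicit false
set_option linter.style.haveILetI false

namespace Cfsg.Agent.Solv.TICount

universe u

variable {G : Type u} [Group G] [Finite G] {M : Subgroup G} {z : G}

/-- Two cosets of `D` outside `N` centralise `z`. -/
structure ManyCase (M : Subgroup G) (z : G) : Prop where
  ctx : Ctx M z
  two : ∃ c c' : G, c * z = z * c ∧ c ∉ Nm M ∧ c' * z = z * c' ∧ c' ∉ Nm M ∧ c⁻¹ * c' ∉ Nm M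

namespace ManyCase

variable (T : ManyCase M z)
include T

theorem dd_or {d : G} (hd : d ∈ Dd M z) : d = 1 ∨ d = z := by
  obtain ⟨c, c', h1, h2, h3, h4, h5⟩ := T.two
  exact T.ctx.dd_small h1 h2 h3 h4 h5 hd

theorem card_dd : Nat.card ↥(Dd M z) = 2 := by
  have : Dd M z = Subgroup.zpowers z := by
    refine le_antisymm (fun d hd => ?_) (Subgroup.zpowers_le.2 T.ctx.z_mem)
    rcases T.dd_or hd with rfl | rfl
    · exact one_mem _
    · exact Subgroup.mem_zpowers d
  rw [this, Nat.card_zpowers, orderOf_two.2 ⟨T.ctx.zz, T.ctx.z1⟩]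

theorem norm_cases {n : G} (hn : n ∈ Nm M) : n ∈ M ∨ ∃ x ∈ M, n = x * z := by
  obtain ⟨x, hx, d, hd, rfl⟩ := T.ctx.fac n hn
  rcases T.dd_or hd with rfl | rfl
  · left; rwa [mul_one]
  · exact Or.inr ⟨x, hx, rfl⟩

theorem cent_M {x g : G} (hx : x ∈ M) (hx1 : x ≠ 1) (hg : g * x = x * g) : g ∈ M := by
  have hgN : g ∈ Nm M := T.ctx.ti g x hx hx1 (by rw [hg, mul_inv_cancel_right]; exact hx)
  rcases T.norm_cases hgN with h | ⟨y, hy, rfl⟩
  · exact h
  · obtain ⟨-, h2, h3⟩ := T.ctx.norm_invol hy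
    exact absurd (T.ctx.no_invol_cent hx h2 h3 hg) hx1

theorem cent_sq {g : G} (hg : g ∈ Subgroup.centralizer ({z} : Set G)) : g * g = 1 := by
  have hg' := Subgroup.mem_centralizer_singleton_iff.1 hg
  by_cases hgN : g ∈ Nm M
  · rcases T.dd_or (T.ctx.mem_dd.2 ⟨hgN, hg'⟩) with rfl | rfl
    · rw [one_mul]
    · exact T.ctx.zz
  · exact (T.ctx.cent_out hg' hgN).1

/-- The numerical data: `|C(z)| = 2f`, `|G : N| = 1 + m (f - 1)`. -/
theorem card_data : ∃ f : ℕ, 3 ≤ f ∧ Nat.card ↥(Subgroup.centralizer ({z} : Set G)) = 2 * f ∧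
    (Nm M).index = 1 + Nat.card M * (f - 1) ∧ ∃ d, f = 2 ^ d := by
  classical
  set K := Subgroup.centralizer ({z} : Set G) with hK
  set D' := (Nm M).subgroupOf K with hD'
  have hmem : ∀ g : K, g ∈ D' ↔ (g : G) ∈ Nm M := fun g => Subgroup.mem_subgroupOf
  have hK' : ∀ g : K, (g : G) * z = z * g := fun g => Subgroup.mem_centralizer_singleton_iff.1 g.2
  have hD2 : Nat.card D' = 2 := by
    rw [← T.card_dd]
    exact Nat.card_congr
      { toFun := fun g => ⟨(g : K).1, T.ctx.mem_dd.2 ⟨(hmem g).1 g.2, hK' g⟩⟩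
        invFun := fun d => ⟨⟨d.1, Subgroup.mem_centralizer_singleton_iff.2 (T.ctx.mem_dd.1 d.2).2⟩,
          (hmem _).2 (T.ctx.mem_dd.1 d.2).1⟩
        left_inv := fun g => rfl
        right_inv := fun d => rfl }
  set f := Nat.card (K ⧸ D') with hf
  have hcK : Nat.card K = 2 * f := by
    rw [← Subgroup.card_mul_index D', hD2, Subgroup.index, hf]
  haveI : Fintype (K ⧸ D') := Fintype.ofFinite _
  obtain ⟨c, c', h1, h2, h3, h4, h5⟩ := T.two
  have hf3 : 3 ≤ f := by
    have hc : (⟨c, Subgroup.mem_centralizer_singleton_iff.2 h1⟩ : K) ∉ D' := fun h => h2 ((hmem _).1 h)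
    have hc' : (⟨c', Subgroup.mem_centralizer_singleton_iff.2 h3⟩ : K) ∉ D' := fun h => h4 ((hmem _).1 h)
    have key : ({((1 : K) : K ⧸ D'), ((⟨c, Subgroup.mem_centralizer_singleton_iff.2 h1⟩ : K) : K ⧸ D'),
        ((⟨c', Subgroup.mem_centralizer_singleton_iff.2 h3⟩ : K) : K ⧸ D')} : Finset (K ⧸ D')).card = 3 := by
      refine Finset.card_eq_three.2 ⟨_, _, _, ?_, ?_, ?_, rfl⟩
      · intro e; rw [QuotientGroup.eq] at e; exact hc (by simpa using e)
      · intro e; rw [QuotientGroup.eq] at e; exact hc' (by simpa using e)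
      · intro e; rw [QuotientGroup.eq] at e; exact h5 ((hmem _).1 e)
    rw [hf, Nat.card_eq_fintype_card, ← key]
    exact Finset.card_le_univ _
  refine ⟨f, hf3, hcK, ?_, ?_⟩
  · have hout : ∀ q : K ⧸ D', q ≠ ((1 : K) : K ⧸ D') → (q.out : G) ∉ Nm M := fun q hq h => hq (by
      rw [← QuotientGroup.out_eq' q, QuotientGroup.eq, mul_one]
      exact inv_mem ((hmem _).2 h))
    let F : Option (M × {q : K ⧸ D' // q ≠ ((1 : K) : K ⧸ D')}) → G ⧸ Nm M :=
      fun o => o.elim ((1 : G) : G ⧸ Nm M) fun p => (((p.1 : G) * (p.2.1.out : G) : G) : G ⧸ Nm M)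
    have hne : ∀ p, F (some p) ≠ F none := by
      intro p h
      simp only [F, Option.elim_some, Option.elim_none, QuotientGroup.eq, mul_one] at h
      refine hout _ p.2.2 ?_
      have h' := inv_mem h
      rw [inv_inv] at h'
      have := mul_mem (inv_mem (Subgroup.le_normalizer p.1.2)) h'
      rwa [inv_mul_cancel_left] at this
    have hbij : Function.Bijective F := by
      refine ⟨?_, fun q => ?_⟩
      · rintro (_ | p) (_ | r) h
        · rfl
        · exact absurd h.symm (hne r)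
        · exact absurd h (hne p)
        · obtain ⟨hx, hd⟩ := T.ctx.decomp_eq p.1.2 r.1.2 (hK' _) (hK' _) (hout _ r.2.2) h
          refine congrArg some (Prod.ext (Subtype.ext hx) (Subtype.ext ?_))
          rw [← QuotientGroup.out_eq' p.2.1, ← QuotientGroup.out_eq' r.2.1, QuotientGroup.eq]
          exact (hmem _).2 (T.ctx.mem_dd.1 hd).1
      · obtain ⟨g, rfl⟩ := QuotientGroup.mk_surjective q
        by_cases hg : g ∈ Nm M
        · exact ⟨none, QuotientGroup.eq.2 (by rw [inv_one, one_mul]; exact hg)⟩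
        · obtain ⟨x, hx, k, hk, hkN, he⟩ := T.ctx.decomp hg
          have hq1 : ((⟨k, Subgroup.mem_centralizer_singleton_iff.2 hk⟩ : K) : K ⧸ D') ≠ ((1 : K) : K ⧸ D') :=
            fun e => hkN ((hmem _).1 (by simpa using QuotientGroup.eq.1 e.symm))
          refine ⟨some (⟨x, hx⟩, ⟨_, hq1⟩), ?_⟩
          rw [he]
          refine QuotientGroup.eq.2 ?_
          obtain ⟨d, hd⟩ := QuotientGroup.mk_out_eq_mul D' (⟨k, Subgroup.mem_centralizer_singleton_iff.2 hk⟩ : K)
          rw [hd]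
          show (x * (k * ((d : K) : G)))⁻¹ * (x * k) ∈ Nm M
          rw [show (x * (k * ((d : K) : G)))⁻¹ * (x * k) = ((d : K) : G)⁻¹ by group]
          exact inv_mem ((hmem _).1 d.2)
    rw [Subgroup.index, ← Nat.card_eq_of_bijective F hbij, Finite.card_option, Nat.card_prod]
    have : Nat.card {q : K ⧸ D' // q ≠ ((1 : K) : K ⧸ D')} = f - 1 := by
      rw [hf, Nat.card_eq_fintype_card, Nat.card_eq_fintype_card, Fintype.card_subtype_compl,
        Fintype.card_subtype_eq]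
    rw [this]; ring
  · have hp : IsPGroup 2 K := fun g => ⟨1, Subtype.ext (by
      rw [pow_one, pow_two]; exact T.cent_sq g.2)⟩
    haveI : Fact (Nat.Prime 2) := ⟨Nat.prime_two⟩
    obtain ⟨a, ha⟩ := hp.exists_card_eq
    rcases a with _ | a
    · omega
    · exact ⟨a, by rw [hcK, pow_succ] at ha; omega⟩

/-- `m = f + 1` or `m = 2f + 1`. -/
theorem numerics : ∃ f d : ℕ, f = 2 ^ d ∧ 2 ≤ d ∧
    Nat.card ↥(Subgroup.centralizer ({z} : Set G)) = 2 * f ∧
    Nat.card {g : G // orderOf g = 2} = Nat.card M * (2 * f - 1) ∧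
    ((Nat.card M = f + 1 ∧ Nat.card G = 2 * (f + 1) * (f * f) ∧
        (Subgroup.centralizer ({z} : Set G)).index = (f + 1) * f) ∨
     (Nat.card M = 2 * f + 1 ∧ Nat.card G = (2 * f + 1) * (2 * f) * (2 * f - 1) ∧
        (Subgroup.centralizer ({z} : Set G)).index = (2 * f + 1) * (2 * f - 1))) := by
  obtain ⟨f, hf3, hK, hidx, d, hd⟩ := T.card_data
  have hd2 : 2 ≤ d := by
    rcases d with _ | _ | d
    · norm_num at hd; omega
    · norm_num at hd; omega
    · omega
  obtain ⟨e, rfl⟩ : ∃ e, f = e + 1 := ⟨f - 1, by omega⟩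
  simp only [Nat.add_sub_cancel] at hidx
  have hI := T.ctx.card_invol_eq
  rw [T.ctx.index_M, T.card_dd, hidx] at hI
  have hG := Subgroup.card_mul_index (Nm M)
  rw [T.ctx.card_norm, T.card_dd, hidx] at hG
  have hC := Subgroup.card_mul_index (Subgroup.centralizer ({z} : Set G))
  rw [hK, ← hG] at hC
  have hle := T.ctx.class_le
  have hm2 : 2 ≤ Nat.card M := by
    have h1 : Nat.card M ≠ 1 := fun h => T.ctx.ne (Subgroup.card_eq_one.1 h)
    have h2 : 0 < Nat.card M := Nat.card_pos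
    omega
  set m := Nat.card M with hm
  set K := (Subgroup.centralizer ({z} : Set G)).index with hKdef
  set I := Nat.card {g : G // orderOf g = 2} with hIdef
  have hC' : (e + 1) * K = m * (1 + m * e) :=
    Nat.eq_of_mul_eq_mul_left two_pos (by rw [← mul_assoc, hC]; ring)
  have hI' : I = m * (2 * e + 1) := by nlinarith
  have hco : Nat.Coprime (e + 1) m := by
    rw [hd]
    exact Nat.Coprime.pow_left _ (Nat.coprime_two_left.2 T.ctx.odd_M)
  have hdvd : e + 1 ∣ 1 + m * e := hco.dvd_of_dvd_mul_left ⟨K, hC'.symm⟩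
  have hdvd2 : e + 1 ∣ m - 1 := by
    have h1 : e + 1 ∣ (1 + m * e) + (m - 1) :=
      ⟨m, by rw [show (1 + m * e) + (m - 1) = m * e + m by omega]; ring⟩
    exact (Nat.dvd_add_right hdvd).1 h1
  obtain ⟨k, hk⟩ := hdvd2
  have hm' : m = (e + 1) * k + 1 := by omega
  have h1 : 1 + m * e = (e + 1) * (1 + k * e) := by rw [hm']; ring
  have hK' : K = m * (1 + k * e) :=
    Nat.eq_of_mul_eq_mul_left (Nat.succ_pos e) (by
      show (e + 1) * K = (e + 1) * (m * (1 + k * e))
      rw [hC', h1]; ring)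
  have hk2 : 1 + k * e ≤ 2 * e + 1 := Nat.le_of_mul_le_mul_left (hK' ▸ hI' ▸ hle) (by omega)
  have hkle : k ≤ 2 := by
    by_contra hk3
    have : 3 * e ≤ k * e := Nat.mul_le_mul_right e (by omega)
    omega
  refine ⟨e + 1, d, hd, hd2, hK, by rw [hI', show 2 * (e + 1) - 1 = 2 * e + 1 by omega], ?_⟩
  interval_cases k
  · omega
  · refine Or.inl ⟨by omega, ?_, ?_⟩
    · rw [← hG, hm']; ring
    · rw [hK', hm']; ring
  · refine Or.inr ⟨by omega, ?_, ?_⟩
    · rw [← hG, hm', show 2 * (e + 1) - 1 = 2 * e + 1 by omega]; ring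
    · rw [hK', hm', show 2 * (e + 1) - 1 = 2 * e + 1 by omega]; ring

end ManyCase

end Cfsg.Agent.Solv.TICount
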