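/-
The case `|M| = f + 1`: a normal elementary abelian `2`-subgroup of order `f²` and dihedral `N(M)`.
-/
import Cfsg.Agent.Lib.Solv.TICount.Many
import Cfsg.Agent.Lib.Solv.Zipper
import Cfsg.Agent.Lib.Lie.ZassenhausEvenTorus
import Cfsg.Agent.Lib.Lie.TwistF4W

set_option autoImplicit false
set_option linter.style.haveILetI false

namespace Cfsg.Agent.Solv.TICount

open scoped Pointwise

universe u

variable {G : Type u} [Group G] [Finite G] {M : Subgroup G} {z : G}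

theorem card_class (z : G) : Nat.card {w : G // ∃ g : G, g * z * g⁻¹ = w} =
    (Subgroup.centralizer ({z} : Set G)).index := by
  refine (Nat.card_eq_of_bijective (fun q : G ⧸ Subgroup.centralizer ({z} : Set G) =>
    (⟨q.out * z * q.out⁻¹, q.out, rfl⟩ : {w : G // ∃ g : G, g * z * g⁻¹ = w})) ⟨fun p q h => ?_, ?_⟩).symm
  · have h' : p.out * z * p.out⁻¹ = q.out * z * q.out⁻¹ := congrArg Subtype.val h
    rw [← QuotientGroup.out_eq' p, ← QuotientGroup.out_eq' q, QuotientGroup.eq,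
      Subgroup.mem_centralizer_singleton_iff]
    calc p.out⁻¹ * q.out * z = p.out⁻¹ * (q.out * z * q.out⁻¹) * q.out := by group
      _ = z * (p.out⁻¹ * q.out) := by rw [← h']; group
  · rintro ⟨w, g, rfl⟩
    refine ⟨(g : G ⧸ Subgroup.centralizer ({z} : Set G)), Subtype.ext ?_⟩
    obtain ⟨⟨k, hk⟩, he⟩ := QuotientGroup.mk_out_eq_mul (Subgroup.centralizer ({z} : Set G)) g
    show Quotient.out _ * z * (Quotient.out _)⁻¹ = g * z * g⁻¹
    rw [he]
    calc g * k * z * (g * k)⁻¹ = g * (k * z) * k⁻¹ * g⁻¹ := by group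
      _ = g * z * g⁻¹ := by rw [Subgroup.mem_centralizer_singleton_iff.1 hk]; group

theorem card_sup_aux (E N : Subgroup G) [E.Normal] (h : E ⊓ N = ⊥) :
    Nat.card E * Nat.card N = Nat.card (E ⊔ N : Subgroup G) := by
  rw [← Nat.card_prod]
  refine Nat.card_eq_of_bijective (fun p : E × N =>
    (⟨(p.1 : G) * p.2, Subgroup.mul_mem_sup p.1.2 p.2.2⟩ : ↥(E ⊔ N))) ⟨?_, ?_⟩
  · intro p q e
    exact Subgroup.mul_injective_of_disjoint (disjoint_iff.2 h) (congrArg Subtype.val e)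
  · rintro ⟨g, hg⟩
    obtain ⟨a, ha, b, hb, rfl⟩ := Subgroup.mem_sup_of_normal_left.1 hg
    exact ⟨(⟨a, ha⟩, ⟨b, hb⟩), rfl⟩

namespace ManyCase

variable (T : ManyCase M z)
include T

theorem odd_conj {f d : ℕ} (hf : f = 2 ^ d) (hm : Nat.card M = f + 1)
    (hG : Nat.card G = 2 * (f + 1) * (f * f)) {y : G} (hy : Odd (orderOf y)) (hy1 : y ≠ 1) :
    ∃ g : G, g⁻¹ * y * g ∈ M := by
  obtain ⟨p, hp, hpy⟩ := Nat.exists_prime_and_dvd (orderOf_eq_one_iff.not.2 hy1)
  haveI := Fact.mk hp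
  set y' := y ^ (orderOf y / p) with hy'
  have hy'o : orderOf y' = p := orderOf_pow_orderOf_div (orderOf_pos y).ne' hpy
  have hp2 : p ≠ 2 := fun h => (Nat.not_even_iff_odd.2 hy) (even_iff_two_dvd.2 (h ▸ hpy))
  have hG2 : Nat.card G = Nat.card M * 2 ^ (2 * d + 1) := by rw [hG, hm, hf]; ring
  have hnd : ¬ p ∣ 2 ^ (2 * d + 1) := fun h =>
    hp2 ((Nat.prime_dvd_prime_iff_eq hp Nat.prime_two).1 (hp.dvd_of_dvd_pow h))
  have hfac : (Nat.card M).factorization p = (Nat.card G).factorization p := by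
    rw [hG2, Nat.factorization_mul Nat.card_pos.ne' (pow_ne_zero _ two_ne_zero), Finsupp.add_apply,
      Nat.factorization_eq_zero_of_not_dvd hnd, add_zero]
  obtain ⟨P₀⟩ : Nonempty (Sylow p M) := inferInstance
  let P : Sylow p G := Sylow.ofCard ((P₀ : Subgroup M).map M.subtype) (by
    rw [Subgroup.card_map_of_injective M.subtype_injective, P₀.card_eq_multiplicity, hfac])
  obtain ⟨Q, hQ⟩ := (IsPGroup.of_card (n := 1)
    (by rw [Nat.card_zpowers, hy'o, pow_one]) : IsPGroup p (Subgroup.zpowers y')).exists_le_sylow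
  obtain ⟨g, hg⟩ := MulAction.exists_smul_eq G P Q
  have hyQ := hQ (Subgroup.mem_zpowers y')
  rw [← hg] at hyQ
  have hmem : g⁻¹ * y' * g ∈ M := by
    have h2 : y' ∈ MulAut.conj g • (P : Subgroup G) := hyQ
    rw [Subgroup.mem_pointwise_smul_iff_inv_smul_mem, ← map_inv, MulAut.smul_def, MulAut.conj_apply, inv_inv,
      show (P : Subgroup G) = (P₀ : Subgroup M).map M.subtype from rfl] at h2
    obtain ⟨⟨a, ha⟩, -, he⟩ := h2
    rw [← he]; exact ha
  refine ⟨g, T.cent_M hmem (fun h => ?_) ?_⟩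
  · have : y' = 1 := by
      calc y' = g * (g⁻¹ * y' * g) * g⁻¹ := by group
        _ = 1 := by rw [h]; group
    rw [this, orderOf_one] at hy'o
    exact hp.one_lt.ne hy'o
  · have hc : y * y' = y' * y := (Commute.self_pow y _).eq
    calc g⁻¹ * y * g * (g⁻¹ * y' * g) = g⁻¹ * (y * y') * g := by group
      _ = g⁻¹ * y' * g * (g⁻¹ * y * g) := by rw [hc]; group

theorem dihedral_case {f d : ℕ} (hf : f = 2 ^ d) (hd : 2 ≤ d)
    (hI : Nat.card {g : G // orderOf g = 2} = Nat.card M * (2 * f - 1))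
    (hm : Nat.card M = f + 1) (hG : Nat.card G = 2 * (f + 1) * (f * f))
    (hC : (Subgroup.centralizer ({z} : Set G)).index = (f + 1) * f) :
    ∃ (d : ℕ) (E : Subgroup G), 1 ≤ d ∧ E.Normal ∧ Cfsg.IsElementaryAbelian 2 E ∧
      Nat.card E = 2 ^ (2 * d) ∧ E ⊓ Nm M = ⊥ ∧ E ⊔ Nm M = ⊤ ∧
      Nonempty (↥(Nm M) ≃* DihedralGroup (2 ^ d + 1)) := by
  classical
  haveI : Fintype G := Fintype.ofFinite G
  haveI : Fact (Nat.Prime 2) := ⟨Nat.prime_two⟩
  set E := Cfsg.pCore 2 G with hEdef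
  haveI hEn : E.Normal := by rw [hEdef]; infer_instance
  have hE2 : IsPGroup 2 E := by rw [hEdef]; exact Cfsg.Agent.Solv.pCore_isPGroup 2
  have hU : ∀ w : G, orderOf w = 2 → (¬ ∃ g : G, g * z * g⁻¹ = w) → w ∈ E := by
    intro w hw hnc
    by_contra hwE
    obtain ⟨h, hh1, hho, hinv⟩ := Cfsg.Agent.Solv.exists_odd_inverted hw hwE
    obtain ⟨hw2, hw1⟩ := orderOf_two.1 hw
    obtain ⟨g, hg⟩ := T.odd_conj hf hm hG hho hh1
    have hgh : g⁻¹ * h * g ≠ 1 := fun e => hh1 (by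
      calc h = g * (g⁻¹ * h * g) * g⁻¹ := by group
        _ = 1 := by rw [e]; group)
    have hwN : g⁻¹ * w * g ∈ Nm M := T.ctx.ti _ _ hg hgh (by
      rw [show g⁻¹ * w * g * (g⁻¹ * h * g) * (g⁻¹ * w * g)⁻¹ = g⁻¹ * (w * h * w⁻¹) * g by group, hinv,
        show g⁻¹ * h⁻¹ * g = (g⁻¹ * h * g)⁻¹ by group]
      exact inv_mem hg)
    have hww : g⁻¹ * w * g * (g⁻¹ * w * g) = 1 := by
      have := conj_mul_self hw2 g⁻¹
      rwa [inv_inv] at this
    obtain ⟨y, -, he⟩ := T.ctx.invol_norm_conj hwN hww (fun e => hw1 (by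
      calc w = g * (g⁻¹ * w * g) * g⁻¹ := by group
        _ = 1 := by rw [e]; group))
    refine hnc ⟨g * y, ?_⟩
    calc g * y * z * (g * y)⁻¹ = g * (y * z * y⁻¹) * g⁻¹ := by group
      _ = w := by rw [← he]; group
  have hUcard : Nat.card {w : {g : G // orderOf g = 2} // ¬ ∃ g : G, g * z * g⁻¹ = w.1} = f * f - 1 := by
    have h1 : Nat.card {w : {g : G // orderOf g = 2} // ∃ g : G, g * z * g⁻¹ = w.1} = (f + 1) * f := by
      rw [← hC, ← card_class z]
      refine Nat.card_congr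
        { toFun := fun w => ⟨w.1.1, w.2⟩
          invFun := fun w => ⟨⟨w.1, by
            obtain ⟨g, hg⟩ := w.2
            rw [← hg]
            exact orderOf_two.2 ⟨conj_mul_self T.ctx.zz g, fun e => T.ctx.z1 (by
              calc z = g⁻¹ * (g * z * g⁻¹) * g := by group
                _ = 1 := by rw [e]; group)⟩⟩, w.2⟩
          left_inv := fun w => rfl
          right_inv := fun w => rfl }
    rw [Nat.card_eq_fintype_card, Fintype.card_subtype_compl, ← Nat.card_eq_fintype_card,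
      ← Nat.card_eq_fintype_card, hI, h1, hm]
    have h4 : 1 ≤ f := hf ▸ Nat.one_le_two_pow
    obtain ⟨e, rfl⟩ : ∃ e, f = e + 1 := ⟨f - 1, by omega⟩
    rw [show 2 * (e + 1) - 1 = 2 * e + 1 by omega,
      show (e + 1) * (e + 1) - 1 = e * e + 2 * e by rw [show (e + 1) * (e + 1) = e * e + 2 * e + 1 by ring]; omega,
      show (e + 1 + 1) * (2 * e + 1) = (e + 1 + 1) * (e + 1) + (e * e + 2 * e) by ring]
    omega
  have hnotin : ∀ g : G, g * z * g⁻¹ ∉ E := by
    intro g hg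
    have hzE : z ∈ E := by
      have := hEn.conj_mem _ hg g⁻¹
      rwa [inv_inv, show g⁻¹ * (g * z * g⁻¹) * g = z by group] at this
    obtain ⟨x, hx, hx1⟩ := (Subgroup.bot_or_exists_ne_one M).resolve_left T.ctx.ne
    have h1 : x * z * x⁻¹ * z⁻¹ ∈ E := mul_mem (hEn.conj_mem _ hzE x) (inv_mem hzE)
    rw [T.ctx.conj_z hx, inv_self T.ctx.zz, mul_assoc, T.ctx.zz, mul_one] at h1
    have hodd : Odd (orderOf (x * x)) :=
      T.ctx.odd_M.of_dvd_nat (Subgroup.orderOf_dvd_natCard _ (mul_mem hx hx))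
    obtain ⟨k, hk⟩ := hE2 ⟨x * x, h1⟩
    have hk' : (x * x) ^ 2 ^ k = 1 := by simpa using congrArg Subtype.val hk
    have : orderOf (x * x) = 1 :=
      ((Nat.coprime_two_right.2 hodd).pow_right k).eq_one_of_dvd (orderOf_dvd_of_pow_eq_one hk')
    exact hx1 (T.ctx.eq_one_of_sq hx (orderOf_eq_one_iff.1 this))
  have hdisj : E ⊓ Nm M = ⊥ := by
    refine (Subgroup.eq_bot_iff_forall _).2 fun n hn => ?_
    rcases T.norm_cases hn.2 with h | ⟨x, hx, rfl⟩
    · obtain ⟨k, hk⟩ := hE2 ⟨n, hn.1⟩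
      have hk' : n ^ 2 ^ k = 1 := by simpa using congrArg Subtype.val hk
      have hodd : Odd (orderOf n) := T.ctx.odd_M.of_dvd_nat (Subgroup.orderOf_dvd_natCard _ h)
      exact orderOf_eq_one_iff.1
        (((Nat.coprime_two_right.2 hodd).pow_right k).eq_one_of_dvd (orderOf_dvd_of_pow_eq_one hk'))
    · obtain ⟨y, hy, rfl⟩ := T.ctx.exists_sqrt hx
      rw [← T.ctx.conj_z hy] at hn
      exact absurd hn.1 (hnotin y)
  have hN : Nat.card ↥(Nm M) = 2 * (f + 1) := by rw [T.ctx.card_norm, T.card_dd, hm]; ring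
  have hle : Nat.card E ≤ f * f := by
    have hinj : Function.Injective fun p : E × ↥(Nm M) => (p.1 : G) * (p.2 : G) := by
      intro p q h
      have h1 : (q.1 : G)⁻¹ * p.1 = q.2 * (p.2 : G)⁻¹ := by
        calc (q.1 : G)⁻¹ * p.1 = (q.1 : G)⁻¹ * (p.1 * p.2) * (p.2 : G)⁻¹ := by group
          _ = _ := by rw [show (p.1 : G) * p.2 = q.1 * q.2 from h]; group
      have h2 : (q.1 : G)⁻¹ * p.1 ∈ E ⊓ Nm M :=
        Subgroup.mem_inf.2 ⟨mul_mem (inv_mem q.1.2) p.1.2, h1 ▸ mul_mem q.2.2 (inv_mem p.2.2)⟩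
      rw [hdisj, Subgroup.mem_bot] at h2
      have h3 : p.1 = q.1 := Subtype.ext (inv_mul_eq_one.1 h2).symm
      refine Prod.ext h3 (Subtype.ext ?_)
      have : (p.1 : G) * p.2 = q.1 * q.2 := h
      rw [h3] at this
      exact mul_left_cancel this
    have := Nat.card_le_card_of_injective _ hinj
    rw [Nat.card_prod, hN, hG] at this
    nlinarith
  have hsub : Function.Injective
      (fun w : {w : {g : G // orderOf g = 2} // ¬ ∃ g : G, g * z * g⁻¹ = w.1} =>
        (⟨⟨w.1.1, hU w.1.1 w.1.2 w.2⟩, fun e => (orderOf_two.1 w.1.2).2 (congrArg Subtype.val e)⟩ :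
          {e : E // e ≠ 1})) :=
    fun v w e => Subtype.ext (Subtype.ext (congrArg (fun t : {e : E // e ≠ 1} => (t.1 : G)) e))
  have hne1 : Nat.card {e : E // e ≠ 1} = Nat.card E - 1 := by
    rw [Nat.card_eq_fintype_card, Fintype.card_subtype_compl, Fintype.card_subtype_eq, Nat.card_eq_fintype_card]
  have hf2 : 1 ≤ f * f := Nat.one_le_iff_ne_zero.2 (by rw [hf]; positivity)
  have hcard : Nat.card E = f * f := by
    have := Nat.card_le_card_of_injective _ hsub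
    rw [hUcard, hne1] at this
    have : 0 < Nat.card E := Nat.card_pos
    omega
  have hbij := (Fintype.bijective_iff_injective_and_card _).2 ⟨hsub, by
    rw [← Nat.card_eq_fintype_card, ← Nat.card_eq_fintype_card, hUcard, hne1, hcard]⟩
  have hsq : ∀ e ∈ E, e * e = 1 := by
    intro e he
    by_cases h1 : e = 1
    · rw [h1, one_mul]
    obtain ⟨w, hw⟩ := hbij.2 ⟨⟨e, he⟩, fun h => h1 (congrArg Subtype.val h)⟩
    have hw' : (w.1.1 : G) = e := congrArg (fun t : {e : E // e ≠ 1} => (t.1 : G)) hw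
    rw [← hw']
    exact (orderOf_two.1 w.1.2).1
  have hEc : ∀ a ∈ E, ∀ b ∈ E, a * b = b * a := fun a ha b hb => by
    calc a * b = (a * b)⁻¹ := (inv_self (hsq _ (mul_mem ha hb))).symm
      _ = b * a := by rw [mul_inv_rev, inv_self (hsq a ha), inv_self (hsq b hb)]
  have hsup : E ⊔ Nm M = ⊤ := by
    refine Subgroup.eq_top_of_card_eq _ ?_
    rw [← Cfsg.Agent.Solv.TICount.card_sup_aux E (Nm M) hdisj, hcard, hN, hG]
    ring
  refine ⟨d, E, by omega, hEn, ⟨⟨⟨fun a b => Subtype.ext (hEc a a.2 b b.2)⟩⟩,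
    fun a ha => by rw [pow_two]; exact hsq a ha⟩, by rw [hcard, hf]; ring, hdisj, hsup, ?_⟩
  -- `M` is cyclic
  haveI : Nontrivial E := by
    rw [← Finite.one_lt_card_iff_nontrivial, hcard]
    have : 4 ≤ f := by rw [hf]; exact le_trans (by norm_num) (Nat.pow_le_pow_right two_pos hd)
    nlinarith
  let φ : M →* MulAut E := (MulAut.conjNormal : G →* MulAut E).comp M.subtype
  haveI : IsCyclic M := Cfsg.Agent.Lie.ZassenhausEvenTorus.isCyclic_of_comm_fpf
    (fun a b => Subtype.ext (T.ctx.comm_M a.2 b.2)) φ fun g hg x hx => by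
      by_contra hx1
      have hval : (g : G) * x * (g : G)⁻¹ = x := congrArg Subtype.val hx
      have hxM : (x : G) ∈ M := T.cent_M g.2 (fun e => hg (Subtype.ext e))
        (mul_inv_eq_iff_eq_mul.1 hval).symm
      have h2 : (x : G) ∈ E ⊓ Nm M := ⟨x.2, Subgroup.le_normalizer hxM⟩
      rw [hdisj, Subgroup.mem_bot] at h2
      exact hx1 (Subtype.ext h2)
  obtain ⟨⟨x, hx⟩, hgen⟩ := IsCyclic.exists_generator (α := M)
  have hxpow : (⟨x, Subgroup.le_normalizer hx⟩ : ↥(Nm M)) ^ (f + 1) = 1 := Subtype.ext (by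
    have := pow_card_eq_one' (x := (⟨x, hx⟩ : M))
    rw [hm] at this
    simpa using congrArg Subtype.val this)
  obtain ⟨ψ, hψr, hψs⟩ := Cfsg.Agent.Lie.F4.exists_dihedralHom (n := f + 1)
    (x := (⟨x, Subgroup.le_normalizer hx⟩ : ↥(Nm M))) (a := (⟨z, T.ctx.zN⟩ : ↥(Nm M))) hxpow
    (Subtype.ext T.ctx.zz) (Subtype.ext (T.ctx.inv_M hx))
  have hsurj : Function.Surjective ψ := by
    intro n
    have hMr : ∀ y (hy : y ∈ M), (⟨y, Subgroup.le_normalizer hy⟩ : ↥(Nm M)) ∈ ψ.range := by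
      intro y hy
      obtain ⟨k, hk⟩ := hgen ⟨y, hy⟩
      have : (⟨y, Subgroup.le_normalizer hy⟩ : ↥(Nm M)) = (⟨x, Subgroup.le_normalizer hx⟩ : ↥(Nm M)) ^ k :=
        Subtype.ext (by simpa using (congrArg Subtype.val hk).symm)
      rw [this]
      exact zpow_mem (MonoidHom.mem_range.2 ⟨_, hψr⟩) k
    rcases T.norm_cases n.2 with h | ⟨y, hy, he⟩
    · exact hMr _ h
    · have : n = (⟨y, Subgroup.le_normalizer hy⟩ : ↥(Nm M)) * ⟨z, T.ctx.zN⟩ := Subtype.ext he
      rw [this]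
      exact MonoidHom.mem_range.1 (mul_mem (hMr y hy) (MonoidHom.mem_range.2 ⟨_, hψs⟩))
  haveI : NeZero (f + 1) := ⟨by omega⟩
  have hb : Function.Bijective ψ := (Nat.bijective_iff_surjective_and_card ψ).2
    ⟨hsurj, by rw [DihedralGroup.nat_card, hN]⟩
  rw [← hf]
  exact ⟨(MulEquiv.ofBijective ψ hb).symm⟩

end ManyCase

end Cfsg.Agent.Solv.TICount
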