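/-
The case `|M| = 2f + 1`: all involution centralisers are elementary abelian of order `q = 2f`,
and `G` is `PSL₂(q)`.
-/
import Cfsg.Agent.Lib.Solv.TICount.Dihedral
import Cfsg.Agent.Lib.Lie.SharpPGL
import Cfsg.Agent.Lib.Classical.Dickson.Tools

set_option autoImplicit false
set_option linter.style.haveILetI false

namespace Cfsg.Agent.Solv.TICount

open MulAction
open scoped Pointwise
open Cfsg.Agent.Lie.Zassenhaus

universe u

/-- An abelian subgroup of odd order of `SL₂` in characteristic two is cyclic. -/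
theorem cyclic_sl {F : Type} [Field F] [Fintype F] [CharP F 2]
    (X : Subgroup (Matrix.SpecialLinearGroup (Fin 2) F)) (hc : ∀ a b : X, a * b = b * a)
    (hodd : Odd (Nat.card X)) : IsCyclic X := by
  classical
  let ψ : X →* MulAut (Multiplicative (Fin 2 → F)) :=
    { toFun := fun g => AddEquiv.toMultiplicative (Matrix.SpecialLinearGroup.toLin' g.1).toAddEquiv
      map_one' := MulEquiv.ext fun v => by
        show Multiplicative.ofAdd ((Matrix.SpecialLinearGroup.toLin' ((1 : X) : Matrix.SpecialLinearGroup (Fin 2) F))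
          (Multiplicative.toAdd v)) = v
        rw [Subgroup.coe_one, map_one]; rfl
      map_mul' := fun g h => MulEquiv.ext fun v => by
        show Multiplicative.ofAdd ((Matrix.SpecialLinearGroup.toLin' ((g * h : X) : Matrix.SpecialLinearGroup (Fin 2) F))
          (Multiplicative.toAdd v)) = _
        rw [Subgroup.coe_mul, map_mul]; rfl }
  refine Cfsg.Agent.Lie.ZassenhausEvenTorus.isCyclic_of_comm_fpf hc ψ fun g hg v hv => ?_
  by_contra hv1
  set A : Matrix (Fin 2) (Fin 2) F := g.1.1 with hA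
  have hfix : A.mulVec (Multiplicative.toAdd v) = Multiplicative.toAdd v := by
    have := congrArg Multiplicative.toAdd hv
    simpa [ψ, Matrix.SpecialLinearGroup.toLin'_apply, Matrix.toLin'_apply] using this
  have hdet : (A - 1).det = 0 := Matrix.exists_mulVec_eq_zero_iff.1
    ⟨Multiplicative.toAdd v, fun e => hv1 (Multiplicative.toAdd.injective (by rw [e]; rfl)),
      by rw [Matrix.sub_mulVec, hfix, Matrix.one_mulVec, sub_self]⟩
  have h1 : A.det = 1 := g.1.2
  rw [Matrix.det_fin_two] at hdet h1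
  simp only [Matrix.sub_apply, Matrix.one_apply_eq, ne_eq, zero_ne_one, not_false_eq_true,
    Matrix.one_apply_ne, sub_zero, one_ne_zero] at hdet
  have h2 : (2 : F) = 0 := CharTwo.two_eq_zero
  have htr : A 1 1 = A 0 0 := by linear_combination (-1 : F) * hdet + h1 + (1 - A 0 0) * h2
  have hsq : g.1 * g.1 = 1 := by
    refine Subtype.ext (Matrix.ext fun i j => ?_)
    rw [Matrix.SpecialLinearGroup.coe_mul, Matrix.mul_apply, Fin.sum_univ_two,
      Matrix.SpecialLinearGroup.coe_one, ← hA]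
    rw [htr] at h1
    fin_cases i <;> fin_cases j <;> simp [htr]
    · linear_combination h1 + (A 0 1 * A 1 0 + 1) * h2 - h2
    · linear_combination (A 0 1 * A 0 0) * h2
    · linear_combination (A 1 0 * A 0 0) * h2
    · linear_combination h1 + (A 0 1 * A 1 0 + 1) * h2 - h2
  have ho : orderOf g ∣ 2 := orderOf_dvd_of_pow_eq_one (Subtype.ext (by rw [pow_two]; exact hsq))
  exact hg (orderOf_eq_one_iff.1 (Nat.Coprime.eq_one_of_dvd
    (Nat.coprime_two_right.2 (hodd.of_dvd_nat (orderOf_dvd_natCard g))) ho))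

variable {G : Type u} [Group G] [Finite G] {M : Subgroup G} {z : G}

/-- A group with elementary abelian involution centralisers of order `q` and order `(q+1)q(q-1)`. -/
structure Sharp (G : Type u) [Group G] (T₀ : Subgroup G) (q : ℕ) : Prop where
  q4 : 4 ≤ q
  card : Nat.card G = (q + 1) * q * (q - 1)
  cardT : Nat.card T₀ = q
  pow : ∃ e, q = 2 ^ e
  sq : ∀ t ∈ T₀, t * t = 1
  key : ∀ g t : G, t ∈ T₀ → t ≠ 1 → g * t * g⁻¹ ∈ T₀ → g ∈ Subgroup.normalizer (T₀ : Set G)
  cent : ∀ g t : G, t ∈ T₀ → t ≠ 1 → g * t = t * g → g ∈ T₀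
  invol : ∀ w : G, w * w = 1 → ∀ x, x * w = w * x → w ≠ 1 → x * x = 1
  trans : ∀ t ∈ T₀, ∀ s ∈ T₀, t ≠ 1 → s ≠ 1 → ∃ g, g * t * g⁻¹ = s

namespace Sharp

variable {T₀ : Subgroup G} {q : ℕ} (S : Sharp G T₀ q)
include S

local notation "B" => Subgroup.normalizer (T₀ : Set G)
local notation "α" => ((1 : G) : G ⧸ B)

theorem fix_one (g : G) : g • α = α ↔ g ∈ B := by
  rw [MulAction.Quotient.smul_mk, eq_comm, QuotientGroup.eq, inv_one, one_mul, smul_eq_mul, mul_one]

theorem card_B : Nat.card ↥(B) = q * (q - 1) := by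
  classical
  haveI : Nontrivial T₀ := by rw [← Finite.one_lt_card_iff_nontrivial, S.cardT]; have := S.q4; omega
  obtain ⟨⟨t, ht⟩, ht1⟩ := exists_ne (1 : T₀)
  have ht1' : t ≠ 1 := fun e => ht1 (Subtype.ext e)
  have hne : ∀ g : G, g * t * g⁻¹ ≠ 1 := fun g e => ht1' (by
    calc t = g⁻¹ * (g * t * g⁻¹) * g := by group
      _ = 1 := by rw [e]; group)
  let Φ : ↥(B) ⧸ (T₀.subgroupOf B) → {s : T₀ // s ≠ 1} := fun p =>
    ⟨⟨(p.out : G) * t * (p.out : G)⁻¹, (Subgroup.mem_normalizer_iff.1 p.out.2 t).1 ht⟩,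
      fun e => hne _ (congrArg Subtype.val e)⟩
  have hbij : Function.Bijective Φ := by
    refine ⟨fun p r e => ?_, fun s => ?_⟩
    · have e' : (p.out : G) * t * (p.out : G)⁻¹ = (r.out : G) * t * (r.out : G)⁻¹ :=
        congrArg (fun x : {s : T₀ // s ≠ 1} => (x.1 : G)) e
      rw [← QuotientGroup.out_eq' p, ← QuotientGroup.out_eq' r, QuotientGroup.eq, Subgroup.mem_subgroupOf]
      refine S.cent _ t ht ht1' ?_
      calc (p.out : G)⁻¹ * r.out * t = (p.out : G)⁻¹ * (r.out * t * (r.out : G)⁻¹) * r.out := by group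
        _ = t * ((p.out : G)⁻¹ * r.out) := by rw [← e']; group
    · obtain ⟨g, hg⟩ := S.trans t ht (s.1 : G) s.1.2 ht1' (fun e => s.2 (Subtype.ext e))
      have hgB := S.key g t ht ht1' (hg ▸ s.1.2)
      refine ⟨((⟨g, hgB⟩ : ↥(B)) : ↥(B) ⧸ T₀.subgroupOf B), Subtype.ext (Subtype.ext ?_)⟩
      obtain ⟨⟨k, hk⟩, he⟩ := QuotientGroup.mk_out_eq_mul (T₀.subgroupOf B) (⟨g, hgB⟩ : ↥(B))
      show ((Quotient.out _ : ↥(B)) : G) * t * ((Quotient.out _ : ↥(B)) : G)⁻¹ = (s.1 : G)
      rw [he, ← hg]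
      have hkt : (k : G) * t = t * k := by
        have hk' : (k : G) ∈ T₀ := hk
        calc (k : G) * t = ((k : G) * t)⁻¹ := (inv_self (S.sq _ (mul_mem hk' ht))).symm
          _ = t * k := by rw [mul_inv_rev, inv_self (S.sq _ ht), inv_self (S.sq _ hk')]
      show g * (k : G) * t * (g * (k : G))⁻¹ = g * t * g⁻¹
      calc g * (k : G) * t * (g * (k : G))⁻¹ = g * ((k : G) * t) * (k : G)⁻¹ * g⁻¹ := by group
        _ = g * t * g⁻¹ := by rw [hkt]; group
  haveI := Fintype.ofFinite T₀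
  have h1 : Nat.card {s : T₀ // s ≠ 1} = q - 1 := by
    rw [Nat.card_eq_fintype_card, Fintype.card_subtype_compl, Fintype.card_subtype_eq,
      ← Nat.card_eq_fintype_card, S.cardT]
  rw [← Subgroup.card_mul_index (T₀.subgroupOf B), Subgroup.index, Nat.card_eq_of_bijective Φ hbij, h1,
    Nat.card_congr (Subgroup.subgroupOfEquivOfLe Subgroup.le_normalizer).toEquiv, S.cardT]

theorem card_points [Fintype (G ⧸ B)] : Fintype.card (G ⧸ B) = q + 1 := by
  have h := Subgroup.card_mul_index B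
  rw [S.card_B, S.card, Subgroup.index, Nat.card_eq_fintype_card] at h
  have := S.q4
  refine Nat.eq_of_mul_eq_mul_left (show 0 < q * (q - 1) from Nat.mul_pos (by omega) (by omega)) ?_
  rw [h]; ring

theorem two_mem {w : G} (hw : w ∈ B) (hww : w * w = 1) : w ∈ T₀ := by
  by_contra hne
  haveI : Fact (Nat.Prime 2) := ⟨Nat.prime_two⟩
  obtain ⟨e, he⟩ := S.pow
  have hzp : IsPGroup 2 (Subgroup.zpowers w) := by
    refine IsPGroup.of_card (n := 1) ?_
    rw [Nat.card_zpowers, pow_one]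
    exact orderOf_two.2 ⟨hww, fun h => hne (h ▸ one_mem _)⟩
  have hT : IsPGroup 2 T₀ := IsPGroup.of_card (n := e) (S.cardT.trans he)
  have hP := hzp.to_sup_of_normal_right' hT (Subgroup.zpowers_le.2 hw)
  obtain ⟨j, hj⟩ := hP.exists_card_eq
  have hd : 2 ^ j ∣ (q + 1) * q * (q - 1) := by
    rw [← S.card, ← hj]; exact Subgroup.card_subgroup_dvd_card _
  have hev : 2 ∣ q := by
    have := S.q4
    rcases e with _ | e
    · simp at he; omega
    · exact he ▸ dvd_pow_self 2 (by omega)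
  have hc1 : Nat.Coprime (2 ^ j) (q + 1) :=
    Nat.Coprime.pow_left _ (Nat.coprime_two_left.2 (Even.add_one (even_iff_two_dvd.2 hev)))
  have hc2 : Nat.Coprime (2 ^ j) (q - 1) :=
    Nat.Coprime.pow_left _ (Nat.coprime_two_left.2 (Nat.Even.sub_odd (by have := S.q4; omega)
      (even_iff_two_dvd.2 hev) odd_one))
  have hle : 2 ^ j ∣ q := hc1.dvd_of_dvd_mul_left (hc2.dvd_of_dvd_mul_right hd)
  have hge : T₀ ≤ Subgroup.zpowers w ⊔ T₀ := le_sup_right
  have heq := Subgroup.eq_of_le_of_card_ge hge (by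
    rw [hj, S.cardT]; exact Nat.le_of_dvd (by have := S.q4; omega) hle)
  exact hne (heq ▸ Subgroup.mem_sup_left (Subgroup.mem_zpowers w))

theorem semireg {t : G} (ht : t ∈ T₀) {p : G ⧸ B} (hp : p ≠ α) (h : t • p = p) : t = 1 := by
  by_contra ht1
  obtain ⟨g, rfl⟩ := QuotientGroup.mk_surjective p
  rw [MulAction.Quotient.smul_mk, smul_eq_mul, eq_comm, QuotientGroup.eq, ← mul_assoc] at h
  have hmem : g⁻¹ * t * g ∈ T₀ := S.two_mem h (by
    rw [show g⁻¹ * t * g * (g⁻¹ * t * g) = g⁻¹ * (t * t) * g by group, S.sq t ht]; group)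
  have hgB : g⁻¹ ∈ B := S.key g⁻¹ t ht ht1 (by rwa [inv_inv])
  refine hp ?_
  rw [QuotientGroup.eq, mul_one]
  exact hgB

theorem exists_out : ∃ p : G ⧸ B, p ≠ α := by
  classical
  haveI := Fintype.ofFinite (G ⧸ B)
  exact Fintype.exists_ne_of_one_lt_card (by rw [S.card_points]; have := S.q4; omega) α

theorem regular {β : G ⧸ B} (hβ : β ≠ α) {p : G ⧸ B} (hp : p ≠ α) : ∃ t ∈ T₀, t • β = p := by
  classical
  haveI := Fintype.ofFinite (G ⧸ B)
  haveI := Fintype.ofFinite T₀
  let F : T₀ → {p : G ⧸ B // p ≠ α} := fun t => ⟨(t : G) • β, fun e => hβ (by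
    rw [← inv_smul_smul (t : G) β, e, (S.fix_one _).2 (inv_mem (Subgroup.le_normalizer t.2))])⟩
  have hinj : Function.Injective F := fun s t e => by
    have e' : (s : G) • β = (t : G) • β := congrArg Subtype.val e
    have := S.semireg (mul_mem (inv_mem t.2) s.2) hβ (by rw [mul_smul, e', inv_smul_smul])
    exact Subtype.ext (inv_mul_eq_one.1 this).symm
  obtain ⟨t, ht⟩ := ((Fintype.bijective_iff_injective_and_card F).2 ⟨hinj, by
    rw [Fintype.card_subtype_compl, Fintype.card_subtype_eq, S.card_points, ← Nat.card_eq_fintype_card, S.cardT]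
    omega⟩).2 ⟨p, hp⟩
  exact ⟨t, t.2, congrArg Subtype.val ht⟩

theorem two_trans : IsMultiplyPretransitive G (G ⧸ B) 2 := by
  rw [is_two_pretransitive_iff]
  obtain ⟨β, hβ⟩ := S.exists_out
  have key : ∀ a b : G ⧸ B, a ≠ b → ∃ g : G, g • α = a ∧ g • β = b := by
    intro a b hab
    obtain ⟨h, rfl⟩ := QuotientGroup.mk_surjective a
    have hh : h • α = (h : G ⧸ B) := by rw [MulAction.Quotient.smul_mk, smul_eq_mul, mul_one]
    have hne : h⁻¹ • b ≠ α := fun e => hab (by rw [← hh, ← e, smul_inv_smul])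
    obtain ⟨t, ht, hte⟩ := S.regular hβ hne
    refine ⟨h * t, ?_, ?_⟩
    · rw [mul_smul, (S.fix_one t).2 (Subgroup.le_normalizer ht), hh]
    · rw [mul_smul, hte, smul_inv_smul]
  intro a b a' b' hab hab'
  obtain ⟨g, hga, hgb⟩ := key a b hab
  obtain ⟨g', hga', hgb'⟩ := key a' b' hab'
  exact ⟨g' * g⁻¹, by rw [mul_smul, ← hga, inv_smul_smul, hga'], by rw [mul_smul, ← hgb, inv_smul_smul, hgb']⟩

theorem three : ThreePoint G (G ⧸ B) := by
  intro g a b e hab hbe hae hga hgb hge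
  obtain ⟨β, hβ⟩ := S.exists_out
  obtain ⟨h, hha, hhb⟩ := (is_two_pretransitive_iff.1 S.two_trans) hβ.symm hab
  set k := h⁻¹ * g * h with hk
  have hka : k • α = α := by rw [hk, mul_smul, mul_smul, hha, hga, ← hha, inv_smul_smul]
  have hkb : k • β = β := by rw [hk, mul_smul, mul_smul, hhb, hgb, ← hhb, inv_smul_smul]
  have hne : h⁻¹ • e ≠ α := fun he => hae (by rw [← hha, ← he, smul_inv_smul])
  obtain ⟨t, ht, hte⟩ := S.regular hβ hne
  have ht1 : t ≠ 1 := fun h1 => hbe (by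
    rw [h1, one_smul] at hte
    rw [← hhb, hte, smul_inv_smul])
  have hkt : k • t • β = t • β := by rw [hte, hk, mul_smul, mul_smul, smul_inv_smul, hge]
  have hkB : k ∈ B := (S.fix_one k).1 hka
  have hcomm : t⁻¹ * (k * t * k⁻¹) ∈ T₀ :=
    mul_mem (inv_mem ht) ((Subgroup.mem_normalizer_iff.1 hkB t).1 ht)
  have hfix : (t⁻¹ * (k * t * k⁻¹)) • β = β := by
    rw [mul_smul, mul_smul, mul_smul, show k⁻¹ • β = β from inv_smul_eq_iff.2 hkb.symm, hkt, inv_smul_smul]
  have h1 := S.semireg hcomm hβ hfix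
  have hkt' : k * t = t * k := (mul_inv_eq_iff_eq_mul.1 (inv_mul_eq_one.1 h1).symm)
  have hk1 : k = 1 := S.semireg (S.cent k t ht ht1 hkt') hβ hkb
  calc g = h * k * h⁻¹ := by rw [hk]; group
    _ = 1 := by rw [hk1]; group

theorem faithful : FaithfulSMul G (G ⧸ B) := by
  classical
  refine ⟨fun {g g'} h => ?_⟩
  haveI := Fintype.ofFinite (G ⧸ B)
  have h3 : 2 < Fintype.card (G ⧸ B) := by rw [S.card_points]; have := S.q4; omega
  obtain ⟨a, b, e, hab, hae, hbe⟩ := Fintype.two_lt_card_iff.1 h3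
  have hf : ∀ p : G ⧸ B, (g'⁻¹ * g) • p = p := fun p => by rw [mul_smul, h p, inv_smul_smul]
  exact (inv_mul_eq_one.1 (S.three (g'⁻¹ * g) a b e hab hbe hae (hf _) (hf _) (hf _))).symm

theorem card_two {β : G ⧸ B} (hβ : β ≠ α) : Nat.card ↥(stabilizer G α ⊓ stabilizer G β) = q - 1 := by
  have hH : ∀ h : ↥(stabilizer G α ⊓ stabilizer G β), (h : G) ∈ B := fun h => (S.fix_one _).1 h.2.1
  have hb : Function.Bijective fun p : T₀ × ↥(stabilizer G α ⊓ stabilizer G β) =>
      (⟨(p.1 : G) * p.2, mul_mem (Subgroup.le_normalizer p.1.2) (hH p.2)⟩ : ↥(B)) := by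
    refine ⟨fun p r e => ?_, fun g => ?_⟩
    · have e' : (p.1 : G) * p.2 = r.1 * r.2 := congrArg Subtype.val e
      have h1 : (p.1 : G) • β = (r.1 : G) • β := by
        have h2 := congrArg (fun x : G => x • β) e'
        simpa [mul_smul, show (p.2 : G) • β = β from p.2.2.2, show (r.2 : G) • β = β from r.2.2.2] using h2
      have h3 := S.semireg (mul_mem (inv_mem r.1.2) p.1.2) hβ (by rw [mul_smul, h1, inv_smul_smul])
      have h4 : p.1 = r.1 := Subtype.ext (inv_mul_eq_one.1 h3).symm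
      refine Prod.ext h4 (Subtype.ext ?_)
      rw [h4] at e'
      exact mul_left_cancel e'
    · have hgB : (g : G) • α = α := (S.fix_one _).2 g.2
      have hne : (g : G) • β ≠ α := fun e => hβ (by
        rw [← inv_smul_smul (g : G) β, e, (S.fix_one _).2 (inv_mem g.2)])
      obtain ⟨t, ht, hte⟩ := S.regular hβ hne
      refine ⟨(⟨t, ht⟩, ⟨t⁻¹ * g, ?_, ?_⟩), Subtype.ext (mul_inv_cancel_left t (g : G))⟩
      · show (t⁻¹ * (g : G)) • α = α
        rw [mul_smul, hgB, (S.fix_one _).2 (inv_mem (Subgroup.le_normalizer ht))]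
      · show (t⁻¹ * (g : G)) • β = β
        rw [mul_smul, ← hte, inv_smul_smul]
  have h := Nat.card_eq_of_bijective _ hb
  rw [Nat.card_prod, S.cardT, S.card_B] at h
  exact Nat.eq_of_mul_eq_mul_left (by have := S.q4; omega) h

/-- Such a group is `PSL₂(q)`. -/
theorem iso : ∃ (F : Type) (_ : Field F) (_ : Fintype F), Fintype.card F = q ∧
    Nonempty (G ≃* Matrix.ProjectiveSpecialLinearGroup (Fin 2) F) := by
  haveI := S.faithful
  haveI : Fintype (G ⧸ B) := Fintype.ofFinite _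
  obtain ⟨β, hβ⟩ := S.exists_out
  have hq := S.q4
  refine Cfsg.Agent.Lie.SharpCoords.with_coords S.two_trans S.three hβ.symm
    (by show Nat.card ↥(stabilizer G α ⊓ stabilizer G β) = _; rw [S.card_two hβ, S.card_points]; omega)
    (by rw [S.card_points]; omega) ?_
  intro p f hp V _ _ _ _ ρ π t e τ Tm zz C
  have ht1 : t ≠ 1 := fun h => hβ (by rw [← C.ta, h, one_smul])
  have hinv := ConstFour.inverts_of_fpf (D := stabilizer G α ⊓ stabilizer G β) (g := t)
    (fun x hx => by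
      rw [inv_self C.tt]
      exact (C.tau ⟨x, hx⟩) ▸ (τ ⟨x, hx⟩).2)
    (fun x _ => by rw [C.tt, one_mul, mul_one])
    (fun x hx h => by
      have h2 := S.invol t C.tt x h.symm ht1
      exact S.semireg (S.two_mem ((S.fix_one x).1 hx.1) h2) hβ hx.2)
  obtain ⟨F, iF, iFF, hF, ⟨eiso⟩⟩ := Cfsg.Agent.Lie.SharpPGL.pgl_of_comm S.two_trans hβ.symm C
    fun g g' => Subtype.ext ((hinv g g.2).2 g' g'.2)
  have hFq : Fintype.card F = q := by
    have := C.card
    rw [C.pf, S.card_points, ← hF] at this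
    omega
  haveI : Finite (Matrix.ProjGenLinGroup (Fin 2) F) := by
    unfold Matrix.ProjGenLinGroup; infer_instance
  have hbij : Function.Bijective (Matrix.ProjectiveSpecialLinearGroup.toPGL :
      Matrix.ProjectiveSpecialLinearGroup (Fin 2) F →* Matrix.ProjGenLinGroup (Fin 2) F) := by
    refine (Nat.bijective_iff_injective_and_card _).2 ⟨Matrix.ProjectiveSpecialLinearGroup.toPGL_injective, ?_⟩
    have h1 := Cfsg.Agent.Classical.Dickson.card_psl F
    obtain ⟨n, hn⟩ := S.pow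
    have hg : Nat.gcd 2 (Fintype.card F - 1) = 1 := by
      rcases n with _ | n
      · simp at hn; omega
      · have h2 : (Fintype.card F - 1) % 2 = 1 := by rw [hFq, hn, pow_succ]; omega
        exact Nat.coprime_two_left.2 (Nat.odd_iff.2 h2)
    rw [hg, mul_one] at h1
    rw [h1, Cfsg.Agent.Classical.Dickson.card_pgl]
  exact ⟨F, iF, iFF, hFq, ⟨eiso.trans (MulEquiv.ofBijective _ hbij).symm⟩⟩

end Sharp

namespace ManyCase

variable (T : ManyCase M z)
include T

theorem sharp_case {f d : ℕ} (hf : f = 2 ^ d) (hd : 2 ≤ d)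
    (hK : Nat.card ↥(Subgroup.centralizer ({z} : Set G)) = 2 * f)
    (hI : Nat.card {g : G // orderOf g = 2} = Nat.card M * (2 * f - 1))
    (hm : Nat.card M = 2 * f + 1) (hG : Nat.card G = (2 * f + 1) * (2 * f) * (2 * f - 1))
    (hC : (Subgroup.centralizer ({z} : Set G)).index = (2 * f + 1) * (2 * f - 1)) :
    ∃ (F : Type) (_ : Field F) (_ : Fintype F) (e : ℕ), 1 < e ∧ Fintype.card F = 2 ^ e ∧ IsCyclic ↥M ∧
      Nat.card M = 2 ^ e + 1 ∧ Nonempty (G ≃* Matrix.ProjectiveSpecialLinearGroup (Fin 2) F) := by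
  classical
  haveI : Fintype G := Fintype.ofFinite G
  set T₀ := Subgroup.centralizer ({z} : Set G) with hT₀
  have hconj : ∀ w : G, w * w = 1 → w ≠ 1 → ∃ g : G, g * z * g⁻¹ = w := by
    intro w hw hw1
    let Ψ : {w : G // ∃ g : G, g * z * g⁻¹ = w} → {g : G // orderOf g = 2} := fun v => ⟨v.1, by
      obtain ⟨g, hg⟩ := v.2
      rw [← hg]
      exact orderOf_two.2 ⟨conj_mul_self T.ctx.zz g, fun e => T.ctx.z1 (by
        calc z = g⁻¹ * (g * z * g⁻¹) * g := by group
          _ = 1 := by rw [e]; group)⟩⟩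
    obtain ⟨v, hv⟩ := ((Nat.bijective_iff_injective_and_card Ψ).2
      ⟨fun a b e => Subtype.ext (congrArg (fun x : {g : G // orderOf g = 2} => (x : G)) e),
        by rw [card_class, hC, hI, hm]⟩).2 ⟨w, orderOf_two.2 ⟨hw, hw1⟩⟩
    obtain ⟨g, hg⟩ := v.2
    exact ⟨g, hg.trans (congrArg Subtype.val hv)⟩
  have hsq : ∀ t ∈ T₀, t * t = 1 := fun t ht => T.cent_sq ht
  have hcomm : ∀ a ∈ T₀, ∀ b ∈ T₀, a * b = b * a := fun a ha b hb => by
    calc a * b = (a * b)⁻¹ := (inv_self (hsq _ (mul_mem ha hb))).symm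
      _ = b * a := by rw [mul_inv_rev, inv_self (hsq a ha), inv_self (hsq b hb)]
  have hmemc : ∀ g w x : G, g * z * g⁻¹ = w → (x * w = w * x ↔ g⁻¹ * x * g ∈ T₀) := by
    intro g w x hw
    rw [hT₀, Subgroup.mem_centralizer_singleton_iff, ← hw]
    constructor <;> intro h
    · calc g⁻¹ * x * g * z = g⁻¹ * (x * (g * z * g⁻¹)) * g := by group
        _ = z * (g⁻¹ * x * g) := by rw [h]; group
    · calc x * (g * z * g⁻¹) = g * (g⁻¹ * x * g * z) * g⁻¹ := by group
        _ = g * z * g⁻¹ * x := by rw [h]; group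
  have hcent : ∀ g t : G, t ∈ T₀ → t ≠ 1 → g * t = t * g → g ∈ T₀ := by
    intro g t ht ht1 hgt
    obtain ⟨h, hh⟩ := hconj t (hsq t ht) ht1
    have h1 : Nat.card ↥(Subgroup.centralizer ({t} : Set G)) = Nat.card T₀ := by
      have e1 : (Subgroup.centralizer ({t} : Set G)).index = T₀.index := by
        rw [← card_class t, ← card_class z, ← hh]
        refine Nat.card_congr (Equiv.subtypeEquivRight fun w => ⟨?_, ?_⟩)
        · rintro ⟨g, rfl⟩
          exact ⟨g * h, by group⟩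
        · rintro ⟨g, rfl⟩
          exact ⟨g * h⁻¹, by group⟩
      refine Nat.eq_of_mul_eq_mul_right (Nat.pos_of_ne_zero T₀.index_ne_zero_of_finite) ?_
      conv_lhs => rw [← e1]
      rw [Subgroup.card_mul_index, Subgroup.card_mul_index]
    have h2 : T₀ = Subgroup.centralizer ({t} : Set G) := Subgroup.eq_of_le_of_card_ge
      (fun x hx => Subgroup.mem_centralizer_singleton_iff.2 (hcomm x hx t ht)) h1.le
    exact h2.symm ▸ Subgroup.mem_centralizer_singleton_iff.2 hgt
  have S : Sharp G T₀ (2 * f) := by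
    refine ⟨?_, hG, hK, ⟨d + 1, by rw [hf, pow_succ, mul_comm]⟩, hsq, ?_, hcent, ?_, ?_⟩
    · have : 4 ≤ f := by rw [hf]; exact le_trans (by norm_num) (Nat.pow_le_pow_right two_pos hd)
      omega
    · intro g t ht ht1 hg
      have hne : g * t * g⁻¹ ≠ 1 := fun e => ht1 (by
        calc t = g⁻¹ * (g * t * g⁻¹) * g := by group
          _ = 1 := by rw [e]; group)
      refine Subgroup.mem_normalizer_iff.2 fun x => ⟨fun hx => ?_, fun hx => ?_⟩
      · refine hcent _ _ hg hne ?_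
        rw [show g * x * g⁻¹ * (g * t * g⁻¹) = g * (x * t) * g⁻¹ by group, hcomm x hx t ht]
        group
      · refine hcent _ t ht ht1 ?_
        calc x * t = g⁻¹ * ((g * x * g⁻¹) * (g * t * g⁻¹)) * g := by group
          _ = t * x := by rw [hcomm _ hx _ hg]; group
    · intro w hw x hx hw1
      obtain ⟨g, hg⟩ := hconj w hw hw1
      have := hsq _ ((hmemc g w x hg).1 hx)
      calc x * x = g * ((g⁻¹ * x * g) * (g⁻¹ * x * g)) * g⁻¹ := by group
        _ = 1 := by rw [this]; group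
    · intro t ht s hs ht1 hs1
      obtain ⟨g, hg⟩ := hconj t (hsq t ht) ht1
      obtain ⟨k, hk⟩ := hconj s (hsq s hs) hs1
      exact ⟨k * g⁻¹, by rw [← hk, ← hg]; group⟩
  obtain ⟨F, iF, iFF, hF, ⟨e⟩⟩ := S.iso
  haveI hchar : CharP F 2 := by
    have h2 : ringChar F = 2 := FiniteField.even_card_iff_char_two.2 (by rw [hF]; omega)
    exact h2 ▸ ringChar.charP F
  refine ⟨F, iF, iFF, d + 1, by omega, by rw [hF, hf, pow_succ, mul_comm], ?_,
    by rw [hm, hf, pow_succ, mul_comm], ⟨e⟩⟩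
  have hf1 : 1 ≤ f := hf ▸ Nat.one_le_two_pow
  have hmk : Function.Bijective (QuotientGroup.mk' (Subgroup.center (Matrix.SpecialLinearGroup (Fin 2) F))) := by
    refine (Nat.bijective_iff_surjective_and_card _).2 ⟨QuotientGroup.mk'_surjective _, ?_⟩
    have h1 := Cfsg.Agent.Classical.Dickson.card_psl F
    rw [show Nat.gcd 2 (Fintype.card F - 1) = 1 from
      Nat.coprime_two_left.2 (Nat.odd_iff.2 (by rw [hF]; omega)), mul_one] at h1
    rw [Cfsg.Agent.Small.SL2C.card_SL2, ← h1]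
  let φ : M →* Matrix.SpecialLinearGroup (Fin 2) F :=
    ((MulEquiv.ofBijective _ hmk).symm.toMonoidHom.comp e.toMonoidHom).comp M.subtype
  have hφ : Function.Injective φ :=
    ((MulEquiv.ofBijective _ hmk).symm.injective.comp e.injective).comp M.subtype_injective
  let eM := MonoidHom.ofInjective hφ
  haveI : IsCyclic φ.range := cyclic_sl φ.range
    (fun a b => eM.symm.injective (by
      rw [map_mul, map_mul]
      exact Subtype.ext (T.ctx.comm_M (eM.symm a).2 (eM.symm b).2)))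
    (by rw [← Nat.card_congr eM.toEquiv]; exact T.ctx.odd_M)
  exact isCyclic_of_surjective eM.symm.toMonoidHom eM.symm.surjective

end ManyCase

end Cfsg.Agent.Solv.TICount
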